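import Groth.Agent.ENComplexLib.Ext

/-!
# The Eagon–Northcott complex of a matrix
-/

set_option autoImplicit false
universe u v w

noncomputable section

namespace ENComplexLib

open Finset

variable {A : Type u} [CommRing A] {m n : ℕ}

variable (A m n) in
/-- The ambient module of the complex. -/
abbrev V : Type u := Finset (Fin n) → (Fin m → ℕ) → A

/-- Lowering. -/
def low (i : Fin m) : ((Fin m → ℕ) → A) →ₗ[A] ((Fin m → ℕ) → A) where
  toFun y e := y (e + Pi.single i 1)
  map_add' _ _ := rfl
  map_smul' _ _ := rfl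

/-- Raising. -/
def rais (l : Fin m) : ((Fin m → ℕ) → A) →ₗ[A] ((Fin m → ℕ) → A) where
  toFun y e := if 0 < e l then y (e - Pi.single l 1) else 0
  map_add' _ _ := funext fun e => by dsimp only [Pi.add_apply]; split_ifs <;> simp
  map_smul' _ _ := funext fun e => by simp only [Pi.smul_apply, RingHom.id_apply]; split_ifs <;> simp

/-- The kernel of lowering. -/
def prj (l : Fin m) : ((Fin m → ℕ) → A) →ₗ[A] ((Fin m → ℕ) → A) where
  toFun y e := if e l = 0 then y e else 0
  map_add' _ _ := funext fun e => by dsimp only [Pi.add_apply]; split_ifs <;> simp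
  map_smul' _ _ := funext fun e => by simp only [Pi.smul_apply, RingHom.id_apply]; split_ifs <;> simp

theorem low_apply (i : Fin m) (y : (Fin m → ℕ) → A) (e : Fin m → ℕ) : low i y e = y (e + Pi.single i 1) := rfl
theorem rais_apply (i : Fin m) (y : (Fin m → ℕ) → A) (e : Fin m → ℕ) :
    rais i y e = if 0 < e i then y (e - Pi.single i 1) else 0 := rfl
theorem prj_apply (i : Fin m) (y : (Fin m → ℕ) → A) (e : Fin m → ℕ) : prj i y e = if e i = 0 then y e else 0 := rfl

theorem low_rais (l : Fin m) (y : (Fin m → ℕ) → A) : low l (rais l y) = y := funext fun e => by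
  rw [low_apply, rais_apply, if_pos (by simp)]
  exact congrArg y (funext fun a => by simp)

theorem rais_low (l : Fin m) (y : (Fin m → ℕ) → A) : rais l (low l y) = y - prj l y := funext fun e => by
  rw [rais_apply, Pi.sub_apply, prj_apply]
  rcases Nat.eq_zero_or_pos (e l) with h | h
  · simp [h]
  · rw [if_pos h, if_neg h.ne', sub_zero, low_apply]
    refine congrArg y (funext fun a => ?_)
    rcases eq_or_ne a l with rfl | ha <;> simp [*]
    omega

theorem low_rais_of_ne {i l : Fin m} (h : i ≠ l) (y : (Fin m → ℕ) → A) : low i (rais l y) = rais l (low i y) :=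
  funext fun e => by
    simp only [low_apply, rais_apply, Pi.add_apply, Pi.single_eq_of_ne h.symm, add_zero]
    split_ifs with hl
    · refine congrArg y (funext fun a => ?_)
      rcases eq_or_ne a l with rfl | ha
      · simp [h.symm]
      · simp [ha]
    · rfl

theorem low_comm (i l : Fin m) (y : (Fin m → ℕ) → A) : low i (low l y) = low l (low i y) :=
  funext fun e => by simp only [low_apply, add_right_comm]

/-- Pointwise application. -/
def pw (L : ((Fin m → ℕ) → A) →ₗ[A] ((Fin m → ℕ) → A)) : V A m n →ₗ[A] V A m n := L.compLeft _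

theorem pw_apply (L : ((Fin m → ℕ) → A) →ₗ[A] ((Fin m → ℕ) → A)) (x : V A m n) (S : Finset (Fin n)) :
    pw L x S = L (x S) := rfl

theorem pw_iota (L : ((Fin m → ℕ) → A) →ₗ[A] ((Fin m → ℕ) → A)) (f : Fin n → A) (x : V A m n) :
    pw L (iota _ f x) = iota _ f (pw L x) := iota_comp L f x

theorem pw_eps (L : ((Fin m → ℕ) → A) →ₗ[A] ((Fin m → ℕ) → A)) (f : Fin n → A) (x : V A m n) :
    pw L (eps _ f x) = eps _ f (pw L x) := eps_comp L f x

variable (φ : Fin m → Fin n → A)

/-- The differential. -/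
def dEN : V A m n →ₗ[A] V A m n := ∑ i, (iota _ (φ i)) ∘ₗ pw (low i)

theorem dEN_apply (x : V A m n) : dEN φ x = ∑ i, iota _ (φ i) (pw (low i) x) := by
  simp [dEN]

theorem dEN_dEN (x : V A m n) : dEN φ (dEN φ x) = 0 := by
  classical
  let a : Fin m → Module.End A (V A m n) := fun i => (iota _ (φ i)) * pw (low i)
  have hmul : ∀ i l, a i * a l = (iota _ (φ i) * iota _ (φ l)) * (pw (low i) * pw (low l)) := fun i l =>
    LinearMap.ext fun y => congrArg (iota _ (φ i)) (pw_iota (low i) (φ l) (pw (low l) y))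
  have hcomm : ∀ i l, (pw (low i) * pw (low l) : Module.End A (V A m n)) = pw (low l) * pw (low i) := fun i l =>
    LinearMap.ext fun y => funext fun S => low_comm i l (y S)
  have key : ∀ s : Finset (Fin m), (∑ i ∈ s, a i) * (∑ i ∈ s, a i) = 0 := by
    intro s
    induction s using Finset.induction_on with
    | empty => simp
    | insert l s hl ih =>
      rw [Finset.sum_insert hl, mul_add, add_mul, add_mul, ih, add_zero, hmul l l,
        show (iota _ (φ l) * iota _ (φ l) : Module.End A (V A m n)) = 0 from LinearMap.ext fun y => iota_iota _ y,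
        zero_mul, zero_add, Finset.mul_sum, Finset.sum_mul, ← Finset.sum_add_distrib]
      refine Finset.sum_eq_zero fun i _ => ?_
      rw [hmul, hmul, hcomm l i, ← add_mul, iota_anticomm, zero_mul]
  exact LinearMap.congr_fun (key Finset.univ) x

/-- The terms of the complex. -/
def Gr (j : ℕ) (x : V A m n) : Prop := ∀ S e, ¬ (S.card = m + j ∧ ∑ i, e i = j) → x S e = 0

theorem Gr.sub {j : ℕ} {x y : V A m n} (hx : Gr j x) (hy : Gr j y) : Gr j (x - y) := fun S e h => by
  simp [hx S e h, hy S e h]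

theorem Gr.add {j : ℕ} {x y : V A m n} (hx : Gr j x) (hy : Gr j y) : Gr j (x + y) := fun S e h => by
  simp [hx S e h, hy S e h]

theorem sum_add_single (e : Fin m → ℕ) (i : Fin m) : ∑ a, (e + Pi.single i 1 : Fin m → ℕ) a = ∑ a, e a + 1 := by
  simp [Finset.sum_add_distrib]

theorem Gr.dEN {j : ℕ} {x : V A m n} (hx : Gr (j + 1) x) : Gr j (dEN φ x) := fun S e h => by
  simp only [dEN_apply, Finset.sum_apply, iota_apply, pw_apply, Pi.smul_apply, low_apply]
  refine Finset.sum_eq_zero fun i _ => Finset.sum_eq_zero fun u hu => ?_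
  rw [hx _ _ (by
    rintro ⟨h1, h2⟩
    rw [Finset.card_insert_of_notMem (Finset.mem_filter.mp hu).2] at h1
    rw [sum_add_single] at h2
    exact h ⟨by omega, by omega⟩), smul_zero]

variable (ψ : Fin m → Fin n → A)

/-- The homotopy. -/
def hom (l : Fin m) : V A m n →ₗ[A] V A m n := (eps _ (ψ l)) ∘ₗ pw (rais l)

theorem Gr.hom {j : ℕ} {x : V A m n} (hx : Gr j x) (l : Fin m) : Gr (j + 1) (hom ψ l x) := fun S e h => by
  simp only [ENComplexLib.hom, LinearMap.comp_apply, eps_apply, Finset.sum_apply, pw_apply, Pi.smul_apply, rais_apply]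
  refine Finset.sum_eq_zero fun t ht => ?_
  split_ifs with hl
  · rw [hx _ _ (by
      rintro ⟨h1, h2⟩
      have hc := Finset.card_erase_add_one ht
      have he : (e - Pi.single l 1 + Pi.single l 1 : Fin m → ℕ) = e := funext fun a => by
        rcases eq_or_ne a l with rfl | ha <;> simp [*]
        omega
      have := sum_add_single (e - Pi.single l 1) l
      rw [he] at this
      exact h ⟨by omega, by omega⟩), smul_zero]
  · exact smul_zero _

/-- One step of the reduction. -/
def step (l : Fin m) : V A m n →ₗ[A] V A m n := (eps _ (ψ l)) ∘ₗ (iota _ (φ l)) ∘ₗ pw (prj l)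

variable (hψ : ∀ i l, ∑ t, φ i t * ψ l t = if i = l then 1 else 0)

include hψ in
theorem homotopy (l : Fin m) (x : V A m n) : dEN φ (hom ψ l x) + hom ψ l (dEN φ x) = x - step φ ψ l x := by
  simp only [dEN_apply, hom, step, LinearMap.comp_apply, map_sum]
  rw [← Finset.sum_add_distrib]
  have h : ∀ i, iota _ (φ i) (pw (low i) (eps _ (ψ l) (pw (rais l) x))) +
      eps _ (ψ l) (pw (rais l) (iota _ (φ i) (pw (low i) x))) =
      if i = l then x - eps _ (ψ l) (iota _ (φ l) (pw (prj l) x)) else 0 := by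
    intro i
    rw [pw_eps, pw_iota]
    split_ifs with h
    · subst h
      have e1 : pw (low i) (pw (rais i) x) = x := funext fun S => low_rais i (x S)
      have e2 : pw (rais i) (pw (low i) x) = x - pw (prj i) x := funext fun S => rais_low i (x S)
      rw [e1, e2, map_sub, map_sub, ← add_sub_assoc, iota_eps, hψ, if_pos rfl, one_smul]
    · have e : pw (rais l) (pw (low i) x) = pw (low i) (pw (rais l) x) :=
        funext fun S => (low_rais_of_ne h (x S)).symm
      rw [e, iota_eps, hψ, if_neg h, zero_smul]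
  rw [Finset.sum_congr rfl fun i _ => h i, Finset.sum_ite_eq' Finset.univ l, if_pos (Finset.mem_univ l)]

/-- The reduction. -/
def red : List (Fin m) → (V A m n →ₗ[A] V A m n)
  | [] => LinearMap.id
  | l :: ls => red ls ∘ₗ step φ ψ l

include hψ in
theorem exists_red {j : ℕ} : ∀ (ls : List (Fin m)) {x : V A m n}, Gr j x → dEN φ x = 0 →
    ∃ y, Gr (j + 1) y ∧ dEN φ y + red φ ψ ls x = x
  | [], x, _, _ => ⟨0, fun _ _ _ => rfl, by simp [red]⟩
  | l :: ls, x, hx, hd => by
    have he : step φ ψ l x = x - dEN φ (hom ψ l x) := by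
      have := homotopy φ ψ hψ l x
      rw [hd, map_zero, add_zero] at this
      rw [this, sub_sub_cancel]
    obtain ⟨y, hy, e⟩ := exists_red ls (x := step φ ψ l x) (he ▸ hx.sub ((hx.hom ψ l).dEN φ))
      (by rw [he, map_sub, hd, dEN_dEN, sub_zero])
    refine ⟨hom ψ l x + y, (hx.hom ψ l).add hy, ?_⟩
    rw [map_add, add_assoc, show red φ ψ (l :: ls) x = red φ ψ ls (step φ ψ l x) from rfl, e, he, add_sub_cancel]

/-- The part of exponent `e`. -/
def atE (e : Fin m → ℕ) : V A m n →ₗ[A] (Finset (Fin n) → A) := (LinearMap.proj e).compLeft _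

theorem atE_step (l : Fin m) (e : Fin m → ℕ) (x : V A m n) :
    atE e (step φ ψ l x) = if e l = 0 then eps A (ψ l) (iota A (φ l) (atE e x)) else 0 := by
  have h : atE e (step φ ψ l x) = eps A (ψ l) (iota A (φ l) (atE e (pw (prj l) x))) :=
    (eps_comp (LinearMap.proj e) (ψ l) (iota _ (φ l) (pw (prj l) x))).trans
      (congrArg (eps A (ψ l)) (iota_comp (LinearMap.proj e) (φ l) (pw (prj l) x)))
  rw [h]
  split_ifs with he
  · congr 2
    funext S
    exact (prj_apply l (x S) e).trans (if_pos he)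
  · have h0 : atE e (pw (prj l) x) = 0 := funext fun S => (prj_apply l (x S) e).trans (if_neg he)
    rw [h0, map_zero, map_zero]

theorem atE_red_eq_zero (e : Fin m → ℕ) : ∀ (ls : List (Fin m)) (x : V A m n),
    (atE e x = 0 ∨ ∃ l ∈ ls, e l ≠ 0) → atE e (red φ ψ ls x) = 0
  | [], x, h => by simpa [red] using h
  | l :: ls, x, h => by
    refine atE_red_eq_zero e ls (step φ ψ l x) ?_
    rcases h with h | ⟨a, ha, hae⟩
    · left; rw [atE_step, h]; simp
    · rcases List.mem_cons.mp ha with rfl | ha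
      · left; rw [atE_step, if_neg hae]
      · exact .inr ⟨a, ha, hae⟩

/-- Iterated contraction. -/
def cL : List (Fin n → A) → ((Finset (Fin n) → A) →ₗ[A] (Finset (Fin n) → A))
  | [] => LinearMap.id
  | f :: fs => cL fs ∘ₗ iota A f

theorem cL_iota_mem : ∀ {fs : List (Fin n → A)} {f : Fin n → A}, f ∈ fs →
    ∀ z : Finset (Fin n) → A, cL fs (iota A f z) = 0
  | g :: fs, f, h, z => by
    show cL fs (iota A g (iota A f z)) = 0
    rcases List.mem_cons.mp h with rfl | h
    · rw [iota_iota, map_zero]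
    · have e : iota A g (iota A f z) + iota A f (iota A g z) = 0 := LinearMap.congr_fun (iota_anticomm g f) z
      rw [eq_neg_of_add_eq_zero_left e, map_neg, cL_iota_mem h, neg_zero]

/-- Iterated contraction moves past an orthogonal multiplication. -/
theorem cL_eps (z : Fin n → A) : ∀ (fs : List (Fin n → A)) (_ : ∀ f ∈ fs, ∑ t, f t * z t = 0)
    (x : Finset (Fin n) → A), cL fs (eps A z x) = (-1 : A) ^ fs.length • eps A z (cL fs x)
  | [], _, x => by simp [cL]
  | f :: fs, h, x => by
    have e := iota_eps f z x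
    rw [h f List.mem_cons_self, zero_smul] at e
    show cL fs (iota A f (eps A z x)) = _
    rw [eq_neg_of_add_eq_zero_left e, map_neg, cL_eps z fs (fun g hg => h g (List.mem_cons_of_mem f hg)),
      List.length_cons, pow_succ, mul_neg, mul_one, neg_smul]
    rfl

include hψ in
theorem red_factor : ∀ (ls : List (Fin m)), ls.Nodup → ∃ F : (Finset (Fin n) → A) →ₗ[A] (Finset (Fin n) → A),
    ∀ x : V A m n, atE 0 (red φ ψ ls x) = F (cL (ls.map φ) (atE 0 x))
  | [], _ => ⟨LinearMap.id, fun _ => rfl⟩
  | l :: ls, h => by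
    obtain ⟨F, hF⟩ := red_factor ls (List.nodup_cons.mp h).2
    refine ⟨((-1 : A) ^ ls.length) • (F ∘ₗ eps A (ψ l)), fun x => ?_⟩
    show atE 0 (red φ ψ ls (step φ ψ l x)) = _
    have ho : ∀ f ∈ ls.map φ, ∑ t, f t * ψ l t = 0 := by
      intro f hf
      obtain ⟨a, ha, rfl⟩ := List.mem_map.mp hf
      rw [hψ, if_neg (fun e : a = l => (List.nodup_cons.mp h).1 (e ▸ ha))]
    rw [hF, atE_step, if_pos (Pi.zero_apply l), cL_eps _ _ ho, map_smul, List.length_map]
    rfl

/-- The augmentation. -/
def cc : V A m n →ₗ[A] A := LinearMap.proj ∅ ∘ₗ cL (List.ofFn φ) ∘ₗ atE 0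

theorem cc_dEN (x : V A m n) : cc φ (dEN φ x) = 0 := by
  rw [dEN_apply, map_sum]
  refine Finset.sum_eq_zero fun i _ => ?_
  have e : atE 0 (iota _ (φ i) (pw (low i) x)) = iota A (φ i) (atE 0 (pw (low i) x)) :=
    iota_comp (LinearMap.proj (R := A) (φ := fun _ : Fin m → ℕ => A) 0) (φ i) (pw (low i) x)
  show cL (List.ofFn φ) (atE 0 _) ∅ = 0
  rw [e, cL_iota_mem ((List.mem_ofFn' _ _).mpr ⟨i, rfl⟩)]
  rfl

theorem Sz.cL : ∀ (fs : List (Fin n → A)) {z : Finset (Fin n) → A}, Sz fs.length z → Sz 0 (cL fs z)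
  | [], _, h => h
  | _ :: fs, _, h => Sz.cL fs (Sz.iota h _)

include hψ in
/-- Exactness in positive degrees. -/
theorem exact_pos {j : ℕ} (hj : 0 < j) {x : V A m n} (hx : Gr j x) (hd : dEN φ x = 0) :
    ∃ y, Gr (j + 1) y ∧ dEN φ y = x := by
  obtain ⟨y, hy, e⟩ := exists_red φ ψ hψ (List.finRange m) hx hd
  refine ⟨y, hy, ?_⟩
  suffices h : red φ ψ (List.finRange m) x = 0 by rwa [h, add_zero] at e
  funext S e'
  refine congrFun (atE_red_eq_zero φ ψ e' (List.finRange m) x ?_) S
  by_cases h : ∃ l, e' l ≠ 0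
  · obtain ⟨l, hl⟩ := h
    exact .inr ⟨l, List.mem_finRange l, hl⟩
  · left
    push Not at h
    funext T
    exact hx T e' (fun h' => by
      have : ∑ i, e' i = 0 := Finset.sum_eq_zero fun i _ => h i
      omega)

include hψ in
/-- Exactness at the first term. -/
theorem exact_zero {x : V A m n} (hx : Gr 0 x) (hc : cc φ x = 0) : ∃ y, Gr 1 y ∧ dEN φ y = x := by
  have hd : dEN φ x = 0 := funext fun S => funext fun e => by
    simp only [dEN_apply, Finset.sum_apply, iota_apply, pw_apply, Pi.smul_apply, low_apply]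
    refine Finset.sum_eq_zero fun i _ => Finset.sum_eq_zero fun u _ => ?_
    rw [hx _ _ (fun h => by rw [sum_add_single] at h; omega), smul_zero]
  obtain ⟨y, hy, e⟩ := exists_red φ ψ hψ (List.finRange m) hx hd
  refine ⟨y, hy, ?_⟩
  suffices h : red φ ψ (List.finRange m) x = 0 by rwa [h, add_zero] at e
  funext S e'
  by_cases h : e' = 0
  · subst h
    obtain ⟨F, hF⟩ := red_factor φ ψ hψ (List.finRange m) (List.nodup_finRange m)
    have hz : cL (List.ofFn φ) (atE 0 x) = 0 := by
      funext T
      by_cases hT : T = ∅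
      · subst hT; exact hc
      · exact Sz.cL (List.ofFn φ) (z := atE 0 x) (fun U hU => hx U 0 (fun h => hU (by rw [List.length_ofFn]; omega))) T
          (fun h => hT (Finset.card_eq_zero.mp h))
    have := congrFun (hF x) S
    rw [← List.ofFn_eq_map, hz, map_zero] at this
    exact this
  · obtain ⟨l, hl⟩ := Function.ne_iff.mp h
    exact congrFun (atE_red_eq_zero φ ψ e' (List.finRange m) x (.inr ⟨l, List.mem_finRange l, hl⟩)) S

end ENComplexLib
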