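import Mathlib

/-!
# Contraction and multiplication on functions of finite subsets
-/

set_option autoImplicit false
universe u v w

noncomputable section

namespace ENComplexLib

open Finset

variable {A : Type u} [CommRing A] {n : ℕ}

/-- The sign of the position of `t` in `S`. -/
def sgn (S : Finset (Fin n)) (t : Fin n) : A := (-1) ^ (S.filter (· < t)).card

theorem sgn_sq (S : Finset (Fin n)) (t : Fin n) : (sgn S t : A) * sgn S t = 1 := by
  rw [sgn, ← mul_pow, neg_mul_neg, one_mul, one_pow]

theorem map_sgn {B : Type w} [CommRing B] (f : A →+* B) (S : Finset (Fin n)) (t : Fin n) :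
    f (sgn S t) = sgn S t := by simp [sgn]

theorem card_filter_insert {S : Finset (Fin n)} {u : Fin n} (hu : u ∉ S) (t : Fin n) :
    ((insert u S).filter (· < t)).card = (S.filter (· < t)).card + if u < t then 1 else 0 := by
  rw [Finset.filter_insert]
  split_ifs with h
  · rw [Finset.card_insert_of_notMem (by simp [hu])]
  · simp

theorem sgn_insert {S : Finset (Fin n)} {u : Fin n} (hu : u ∉ S) (t : Fin n) :
    (sgn (insert u S) t : A) = (if u < t then -1 else 1) * sgn S t := by
  rw [sgn, card_filter_insert hu t, sgn]
  split_ifs <;> ring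

variable {M : Type v} [AddCommGroup M] [Module A M]

variable (M) in
/-- Contraction with a functional. -/
def iota (f : Fin n → A) : (Finset (Fin n) → M) →ₗ[A] (Finset (Fin n) → M) where
  toFun x S := ∑ u ∈ Finset.univ.filter (· ∉ S), (sgn (insert u S) u * f u) • x (insert u S)
  map_add' x y := funext fun S => by simp [smul_add, Finset.sum_add_distrib]
  map_smul' a x := funext fun S => by
    simp only [Pi.smul_apply, RingHom.id_apply, Finset.smul_sum]
    exact Finset.sum_congr rfl fun u _ => smul_comm _ _ _

variable (M) in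
/-- Multiplication by a vector. -/
def eps (z : Fin n → A) : (Finset (Fin n) → M) →ₗ[A] (Finset (Fin n) → M) where
  toFun x S := ∑ t ∈ S, (sgn S t * z t) • x (S.erase t)
  map_add' x y := funext fun S => by simp [smul_add, Finset.sum_add_distrib]
  map_smul' a x := funext fun S => by
    simp only [Pi.smul_apply, RingHom.id_apply, Finset.smul_sum]
    exact Finset.sum_congr rfl fun u _ => smul_comm _ _ _

theorem iota_apply (f : Fin n → A) (x : Finset (Fin n) → M) (S : Finset (Fin n)) :
    iota M f x S = ∑ u ∈ Finset.univ.filter (· ∉ S), (sgn (insert u S) u * f u) • x (insert u S) := rfl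

theorem eps_apply (z : Fin n → A) (x : Finset (Fin n) → M) (S : Finset (Fin n)) :
    eps M z x S = ∑ t ∈ S, (sgn S t * z t) • x (S.erase t) := rfl

/-- Contraction twice. -/
theorem iota_iota (f : Fin n → A) (x : Finset (Fin n) → M) : iota M f (iota M f x) = 0 := by
  funext S
  simp only [iota_apply, Finset.smul_sum, smul_smul, Pi.zero_apply]
  rw [Finset.sum_sigma']
  refine Finset.sum_involution (fun p _ => ⟨p.2, p.1⟩) ?_ ?_ ?_ ?_
  · rintro ⟨u, v⟩ hp
    obtain ⟨hu, hv⟩ : u ∉ S ∧ v ∉ S ∧ v ≠ u := by
      simp only [Finset.mem_sigma, Finset.mem_filter, Finset.mem_univ, true_and, Finset.mem_insert, not_or] at hp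
      exact ⟨hp.1, hp.2.2, hp.2.1⟩
    obtain ⟨hv, hne⟩ := hv
    dsimp only
    rw [Finset.insert_comm u v S, ← add_smul]
    suffices h : (sgn (insert u S) u * f u) * (sgn (insert v (insert u S)) v * f v) +
        (sgn (insert v S) v * f v) * (sgn (insert v (insert u S)) u * f u) = 0 by rw [h, zero_smul]
    rw [sgn_insert (S := insert u S) (u := v) (by simp [hne, hv]) v, sgn_insert (S := insert u S) (u := v) (by simp [hne, hv]) u,
      sgn_insert hu v, sgn_insert hu u, sgn_insert hv v]
    rcases lt_or_gt_of_ne hne with h | h <;> simp [h, h.asymm] <;> ring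
  · rintro ⟨u, v⟩ hp - he
    simp only [Finset.mem_sigma, Finset.mem_filter, Finset.mem_univ, true_and, Finset.mem_insert, not_or] at hp
    exact hp.2.1 (congrArg Sigma.fst he)
  · rintro ⟨u, v⟩ hp
    simp only [Finset.mem_sigma, Finset.mem_filter, Finset.mem_univ, true_and, Finset.mem_insert, not_or] at hp ⊢
    exact ⟨hp.2.2, fun h => hp.2.1 h.symm, hp.1⟩
  · rintro ⟨u, v⟩ _
    rfl

theorem iota_add (f g : Fin n → A) : iota M (f + g) = iota M f + iota M g := by
  refine LinearMap.ext fun x => funext fun S => ?_
  simp [iota_apply, mul_add, add_smul, Finset.sum_add_distrib]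

/-- Contractions anticommute. -/
theorem iota_anticomm (f g : Fin n → A) : iota M f * iota M g + iota M g * iota M f = 0 := by
  have h : ∀ e : Fin n → A, iota M e * iota M e = 0 := fun e => LinearMap.ext fun x => iota_iota e x
  have h2 := h (f + g)
  rw [iota_add, mul_add, add_mul, add_mul, h f, h g, zero_add, add_zero, add_comm] at h2
  exact h2

/-- The anticommutator of a contraction and a multiplication. -/
theorem iota_eps (f z : Fin n → A) (x : Finset (Fin n) → M) :
    iota M f (eps M z x) + eps M z (iota M f x) = (∑ t, f t * z t) • x := by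
  funext S
  have h1 : ∀ u ∈ Finset.univ.filter (fun u => u ∉ S),
      (sgn (insert u S) u * f u) • eps M z x (insert u S) = (f u * z u) • x S +
        ∑ t ∈ S, ((sgn (insert u S) u * f u) * (sgn (insert u S) t * z t)) • x ((insert u S).erase t) := by
    intro u hu
    have hu' : u ∉ S := (Finset.mem_filter.mp hu).2
    rw [eps_apply, Finset.smul_sum, Finset.sum_insert hu', smul_smul, Finset.erase_insert hu']
    refine congr_arg₂ (· + ·) (congrArg (· • x S) ?_) (Finset.sum_congr rfl fun t _ => smul_smul _ _ _)
    rw [mul_mul_mul_comm, sgn_sq, one_mul]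
  have h2 : ∀ t ∈ S, (sgn S t * z t) • iota M f x (S.erase t) = (f t * z t) • x S +
      ∑ u ∈ Finset.univ.filter (fun u => u ∉ S),
        ((sgn S t * z t) * (sgn (insert u (S.erase t)) u * f u)) • x (insert u (S.erase t)) := by
    intro t ht
    rw [iota_apply, Finset.smul_sum,
      show Finset.univ.filter (fun u => u ∉ S.erase t) = insert t (Finset.univ.filter fun u => u ∉ S) by
        ext u; simp only [Finset.mem_filter, Finset.mem_univ, true_and, Finset.mem_erase, Finset.mem_insert]; tauto,
      Finset.sum_insert (by simp [ht]), smul_smul, Finset.insert_erase ht]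
    refine congr_arg₂ (· + ·) (congrArg (· • x S) ?_) (Finset.sum_congr rfl fun t _ => smul_smul _ _ _)
    rw [mul_mul_mul_comm, sgn_sq, one_mul, mul_comm]
  have hcross : ∀ u ∈ Finset.univ.filter (fun u => u ∉ S), ∀ t ∈ S,
      ((sgn (insert u S) u * f u) * (sgn (insert u S) t * z t)) • x ((insert u S).erase t) +
        ((sgn S t * z t) * (sgn (insert u (S.erase t)) u * f u)) • x (insert u (S.erase t)) = 0 := by
    intro u hu t ht
    have hu' : u ∉ S := (Finset.mem_filter.mp hu).2
    have hne : u ≠ t := fun h => hu' (h ▸ ht)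
    rw [Finset.erase_insert_of_ne hne, ← add_smul]
    suffices h : (sgn (insert u S) u * f u) * (sgn (insert u S) t * z t) +
        (sgn S t * z t) * (sgn (insert u (S.erase t)) u * f u) = 0 by rw [h, zero_smul]
    have e : sgn (insert u S) u = (if t < u then -1 else 1) * (sgn (insert u (S.erase t)) u : A) := by
      conv_lhs => rw [← Finset.insert_erase ht, Finset.insert_comm]
      rw [sgn_insert (S := insert u (S.erase t)) (by simp [hne.symm]) u]
    rw [e, sgn_insert hu' t]
    rcases lt_or_gt_of_ne hne with h | h <;> simp [h, h.asymm] <;> ring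
  rw [Pi.add_apply, iota_apply, eps_apply, Finset.sum_congr rfl h1, Finset.sum_congr rfl h2,
    Finset.sum_add_distrib, Finset.sum_add_distrib, add_add_add_comm, Finset.sum_comm (s := S),
    ← Finset.sum_add_distrib (f := fun u => ∑ t ∈ S, _), Finset.sum_eq_zero fun u hu => (Finset.sum_add_distrib.symm.trans (Finset.sum_eq_zero (hcross u hu))),
    add_zero, Pi.smul_apply, Finset.sum_smul, add_comm, ← Finset.sum_filter_add_sum_filter_not Finset.univ (fun u => u ∈ S)]
  simp

theorem iota_mul_eps (f z : Fin n → A) : iota M f * eps M z + eps M z * iota M f = (∑ t, f t * z t) • 1 :=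
  LinearMap.ext fun x => iota_eps f z x

section Nat

variable {M' : Type w} [AddCommGroup M'] [Module A M'] (L : M →ₗ[A] M')

theorem iota_comp (f : Fin n → A) (x : Finset (Fin n) → M) : (fun S => L (iota M f x S)) = iota M' f fun S => L (x S) := by
  funext S
  simp [iota_apply, map_sum]

theorem eps_comp (f : Fin n → A) (x : Finset (Fin n) → M) : (fun S => L (eps M f x S)) = eps M' f fun S => L (x S) := by
  funext S
  simp [eps_apply, map_sum]

end Nat

/-- Supported on subsets of a given size. -/
def Sz (d : ℕ) (x : Finset (Fin n) → M) : Prop := ∀ S, S.card ≠ d → x S = 0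

theorem Sz.iota {d : ℕ} {x : Finset (Fin n) → M} (h : Sz (d + 1) x) (f : Fin n → A) : Sz d (iota M f x) := fun S hS => by
  rw [iota_apply]
  refine Finset.sum_eq_zero fun u hu => ?_
  rw [h _ (by rw [Finset.card_insert_of_notMem (Finset.mem_filter.mp hu).2]; omega), smul_zero]

theorem Sz.eps {d : ℕ} {x : Finset (Fin n) → M} (h : Sz d x) (f : Fin n → A) : Sz (d + 1) (eps M f x) := fun S hS => by
  rw [eps_apply]
  refine Finset.sum_eq_zero fun t ht => ?_
  rw [h _ (by have := Finset.card_erase_add_one ht; omega), smul_zero]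

end ENComplexLib
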