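import Groth.Agent.ENComplexLib.Sheaves
import Groth.Agent.FittLib.Ideal
import Groth.Agent.FittLib.Generated
import Groth.Agent.FittLib.OmegaFitt
import Groth.Agent.DevissLib.Basic
import Groth.Agent.GrSysLib.Sheaf
import Groth.Agent.GenFlatStrat.FGExtend
import Groth.Agent.BlowPtLib.Exceptional
import Groth.Agent.LocFreeCorepLib.Main
import Groth.Agent.LocSuppLib.LocFree
import Groth.Agent.S12910

/-!
# Regularity of the ideal of maximal minors of a matrix of linear forms
-/

set_option autoImplicit false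
set_option linter.style.haveILetI false
set_option linter.unusedSectionVars false
set_option maxHeartbeats 1000000
set_option backward.isDefEq.respectTransparency false
set_option backward.isDefEq.respectTransparency.types false
universe u

open CategoryTheory CategoryTheory.Limits AlgebraicGeometry TopologicalSpace Opposite
open GradedCechLib (deh)
open EulerPnLib (ev val_smul' ev_deh mulHomX val_mulHomX)
open AmpleLib (res GenOn)

noncomputable section

namespace ENComplexLib

variable {r : ℕ} {k : Type u} [Field k]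

local notation "P" => CohB1.ProjSpace r k
local notation "O'" => Twist.twistProjSpace r k
local notation "ℳ" => CohB1.polyGrading r k
local notation "Dst" => QCohLib.stdOpen r k
local notation "Poly" => MvPolynomial (Fin (r + 1)) k

theorem isAffineOpen_Dst (j : Fin (r + 1)) : IsAffineOpen (Dst j) :=
  Proj.isAffineOpen_basicOpen (CohB1.polyGrading r k) _ (GradedCechLib.X_mem r k j) one_pos

/-- A map `O(-1) → O(0)` is multiplication by a linear form. -/
theorem exists_eq_mulHomX (h : O' (-((1 : ℕ) : ℤ)) ⟶ O' (-((0 : ℕ) : ℤ))) :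
    ∃ g : ↥(CohB1.polyGrading r k 1), h = mulHomX g (by norm_num) := by
  obtain ⟨c, hc⟩ := EulerPnLib.exists_forms r k h
  refine ⟨∑ j, c j • EulerPnLib.Xel r k j, ?_⟩
  refine Scheme.Modules.hom_ext _ _ fun V => ConcreteCategory.hom_ext _ _ fun t => TwistLib.sec_ext fun x => ?_
  let ev' : (O' (-((1 : ℕ) : ℤ)) ⟶ O' (-((0 : ℕ) : ℤ))) →+ Twist.Loc ℳ x.1 :=
    AddMonoidHom.mk' (fun f => TwistLib.val (f.app V t) x) fun f g => rfl
  show ev' h = ev' (mulHomX (∑ j, c j • EulerPnLib.Xel r k j) (by norm_num))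
  rw [hc]
  refine (map_sum ev' _ _).trans ?_
  refine Eq.trans ?_ (val_mulHomX (∑ j, c j • EulerPnLib.Xel r k j) (q := -((0 : ℕ) : ℤ)) (by norm_num) t x).symm
  rw [AddSubmonoidClass.coe_finsetSum, map_sum, Finset.sum_mul]
  refine Finset.sum_congr rfl fun j _ => ?_
  refine (EulerPnLib.val_smul_app r k (c j) (EulerPnLib.mulXHom r k j) t x).trans ?_
  rw [show TwistLib.val ((EulerPnLib.mulXHom r k j).app V t) x =
    algebraMap Poly (Twist.Loc ℳ x.1) (MvPolynomial.X j) * TwistLib.val t x from val_mulHomX _ _ t x,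
    ← mul_assoc, ← map_mul, SetLike.val_smul, MvPolynomial.smul_eq_C_mul]

variable {m n : ℕ} (φ : T r k (Fin n) 1 ⟶ FlatMod.freeMod (CohB1.ProjSpace r k) m)

/-- The projection from the free module. -/
def prj' (i : Fin m) : FlatMod.freeMod (P) m ⟶ Coh.structureModule P :=
  Sigma.desc fun a => if a = i then 𝟙 (Coh.structureModule P) else 0

/-- The matrix of linear forms of `φ`. -/
def entry (i : Fin m) (b : Fin n) : ↥(CohB1.polyGrading r k 1) :=
  (exists_eq_mulHomX (biproduct.ι (fun _ : Fin n => O' (-((1 : ℕ) : ℤ))) b ≫ φ ≫ prj' i ≫ (omega r k).hom)).choose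

theorem coord_app (j : Fin (r + 1)) {V : (P).Opens} (hV : V ≤ Dst j) (t : Γ(T r k (Fin n) 1, V)) (i : Fin m) :
    FittLib.coord (φ.app V t) i = ∑ b, crd j hV t b * dh j hV (entry φ i b : Poly) := by
  show (prj' i).app V (φ.app V t) = _
  conv_lhs => rw [← ofCrd_crd j hV t, ofCrd, map_sum, map_sum]
  refine Finset.sum_congr rfl fun b _ => ?_
  have h := congr($((exists_eq_mulHomX (biproduct.ι (fun _ : Fin n => O' (-((1 : ℕ) : ℤ))) b ≫ φ ≫ prj' i ≫
    (omega r k).hom)).choose_spec).app V (crd j hV t b • res (O' (-((1 : ℕ) : ℤ))) hV (gen j 1)))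
  have h2 := congrArg ((omega r k).inv.app V) h
  refine Eq.trans ?_ (h2.trans ?_)
  · exact (congr($((omega r k).hom_inv_id).app V ((prj' i).app V (φ.app V
      ((biproduct.ι (fun _ : Fin n => O' (-((1 : ℕ) : ℤ))) b).app V
        (crd j hV t b • res (O' (-((1 : ℕ) : ℤ))) hV (gen j 1))))))).symm
  · rw [QCohLib.app_smul]
    refine (congrArg (fun z => (omega r k).inv.app V (crd j hV t b • z)) (mulHomX_gen (entry φ i b) (by norm_num) j hV)).trans ?_
    rw [smul_smul]
    exact omega_inv_smul j hV _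

theorem isQCoh_T {ι : Type} [Fintype ι] (e : ℕ) : Coh.IsQCoh (T r k ι e) := by
  haveI := PnCohLib.isLocallyNoetherian_projSpace (n := r) k
  let eW : T r k (Fin (Fintype.card ι)) e ≅ T r k ι e :=
    biproduct.whiskerEquiv (g := fun _ : ι => O' (-(e : ℤ))) (f := fun _ : Fin (Fintype.card ι) => O' (-(e : ℤ)))
      (Fintype.equivFin ι).symm fun _ => Iso.refl _
  exact (QCohLib.isCoh_of_iso eW (RefDetNumLib.isCoh_biproduct _ fun _ =>
    CurvLib.isCoh_of_isInvertible (PicPnLib.twist_inv r k _))).1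

theorem isCoh_cokernel : Coh.IsCoh (cokernel φ) := by
  haveI := PnCohLib.isLocallyNoetherian_projSpace (n := r) k
  exact QCohLib.isCoh_cokernel φ (isQCoh_T 1)
    (LocSuppLib.isCoh_of_isFinLocFree (Groth.Agent.LocFreeCorepLib.isFinLocFree_freeMod m))

/-- The Fitting ideal on an affine open inside a chart. -/
theorem fitt_ideal (j : Fin (r + 1)) (U : (P).affineOpens) (hU : U.1 ≤ Dst j) :
    (Fitt.sheafIdeal (cokernel φ) 0).ideal U =
      Ideal.span (Set.range fun a : Idx m n 0 => dh j hU (mnr (pm (entry φ)) a.1.1)) := by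
  have hC := isCoh_cokernel φ
  haveI := hC.1
  haveI := PnCohLib.isLocallyNoetherian_projSpace (n := r) k
  haveI : Coh.IsQCoh (T r k (Fin n) 1) := isQCoh_T 1
  haveI : Coh.IsQCoh (FlatMod.freeMod (P) m) :=
    (LocSuppLib.isCoh_of_isFinLocFree (Groth.Agent.LocFreeCorepLib.isFinLocFree_freeMod m)).1
  rw [FittLib.sheafIdeal_ideal _ hC.2]
  let ψ : Fin m → Fin n → Γ(P, U.1) := fun i b => dh j hU (entry φ i b : Poly)
  let x : Fin m → Γ(cokernel φ, U.1) := fun i => (cokernel.π φ).app U.1 (FittLib.stdSec P m U.1 i)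
  let S : ShortComplex (P).Modules :=
    ShortComplex.mk (Abelian.image.ι φ) (cokernel.π φ) (kernel.condition _)
  have hS : S.ShortExact := ShortComplex.ShortExact.mk (ShortComplex.exact_of_f_is_kernel _ (kernelIsKernel _))
  haveI : Coh.IsQCoh S.X₁ := QCohLib.isQCoh_image φ
  have hπ : Function.Surjective ((cokernel.π φ).app U.1) := QCohLib.app_surjective_of_affine hS U.2
  have hsum : ∀ z : Fin m → Γ(P, U.1), ∑ i, z i • x i =
      (cokernel.π φ).app U.1 (∑ i, z i • FittLib.stdSec P m U.1 i) := fun z => by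
    rw [map_sum]
    exact Finset.sum_congr rfl fun i _ => (QCohLib.app_smul (cokernel.π φ) U.1 (z i) _).symm
  have hx : Submodule.span Γ(P, U.1) (Set.range x) = ⊤ := by
    refine eq_top_iff.mpr fun q _ => ?_
    obtain ⟨e, rfl⟩ := hπ q
    rw [FittLib.sum_coord e, ← hsum]
    exact Submodule.sum_mem _ fun i _ => Submodule.smul_mem _ _ (Submodule.subset_span ⟨i, rfl⟩)
  have hrel : FittLib.rel (R := Γ(P, U.1)) x =
      (Submodule.span Γ(P, U.1) (Set.range fun b => fun i => ψ i b) : Set (Fin m → Γ(P, U.1))) := by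
    ext z
    rw [SetLike.mem_coe, Submodule.mem_span_range_iff_exists_fun]
    constructor
    · intro hz
      have hz' : S.g.app U.1 (∑ i, z i • FittLib.stdSec P m U.1 i) = 0 := (hsum z).symm.trans hz
      obtain ⟨y, hy⟩ := QCohLib.exists_of_app_eq_zero hS.exact hS.mono_f _ hz'
      haveI : Coh.IsQCoh (DevissLib.kerImSeq φ).X₁ := QCohLib.isQCoh_kernel φ
      obtain ⟨t, ht⟩ := QCohLib.app_surjective_of_affine (DevissLib.kerImSeq_shortExact φ) U.2 y
      have e : φ.app U.1 t = ∑ i, z i • FittLib.stdSec P m U.1 i := by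
        refine (congr($(Abelian.image.fac φ).app U.1 t)).symm.trans ?_
        exact (congrArg ((Abelian.image.ι φ).app U.1) ht).trans hy
      refine ⟨crd j hU t, funext fun i => ?_⟩
      rw [Finset.sum_apply]
      refine Eq.trans ?_ ((coord_app φ j hU t i).symm.trans ((congrArg (FittLib.coord · i) e).trans (FittLib.coord_sum_smul z i)))
      exact Finset.sum_congr rfl fun b _ => rfl
    · rintro ⟨c, rfl⟩
      refine (hsum _).trans ?_
      have e : φ.app U.1 (ofCrd j hU c) = ∑ i, (∑ b, c b • fun i => ψ i b) i • FittLib.stdSec P m U.1 i := by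
        refine (FittLib.sum_coord _).trans (Finset.sum_congr rfl fun i _ => congrArg (· • FittLib.stdSec P m U.1 i) ?_)
        rw [coord_app φ j hU, crd_ofCrd, Finset.sum_apply]
        rfl
      rw [← e, ← ConcreteCategory.comp_apply, ← Scheme.Modules.Hom.comp_app, cokernel.condition]
      rfl
  rw [FittLib.ideal_eq x hx 0, hrel, FittLib.J_span, Nat.sub_zero, ← span_mnr_eq ψ]
  refine congrArg Ideal.span (Set.ext fun y => ⟨?_, ?_⟩)
  · rintro ⟨⟨S', hS'⟩, rfl⟩
    exact ⟨⟨(S', 0), mem_idx.mpr ⟨by omega, by simp⟩⟩, map_mnr (pm (entry φ)) (dh j hU) S'⟩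
  · rintro ⟨a, rfl⟩
    exact ⟨⟨a.1.1, by have := (mem_idx.mp a.2).1; omega⟩, (map_mnr (pm (entry φ)) (dh j hU) a.1.1).symm⟩

/-- The Fitting ideal. -/
abbrev II : (P).IdealSheafData := Fitt.sheafIdeal (cokernel φ) 0

theorem Ed_zero_toSubscheme : Ed (entry φ) 0 ≫ ClSub.toSubscheme (II φ) = 0 := by
  let ψ := Ed (entry φ) 0 ≫ ClSub.toSubscheme (II φ)
  haveI : Coh.IsQCoh (EX r k m n (0 + 1)) := (isCoh_EX (0 + 1)).1
  haveI : Epi (kernel.ι ψ) := by
    refine GrSysLib.epi_of_surjective_on_cover (kernel.ι ψ) (fun j => Dst j) isAffineOpen_Dst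
      (fun x => ⟨_, (ProjSecLib.cover (R := k) (n := r) x).choose_spec⟩) fun j s => ?_
    refine QCohLib.exists_of_app_eq_zero (S := ShortComplex.mk (kernel.ι ψ) ψ (kernel.condition ψ))
      (ShortComplex.exact_of_f_is_kernel _ (kernelIsKernel _)) (inferInstanceAs (Mono (kernel.ι ψ))) s ?_
    show (ClSub.toSubscheme (II φ)).app (Dst j) ((Ed (entry φ) 0).app (Dst j) s) = 0
    refine (GenFlatStrat.subschemeι_app_eq_zero_iff (II φ) ⟨Dst j, isAffineOpen_Dst j⟩ _).mpr ?_
    rw [Ed_zero_app (entry φ) j le_rfl, fitt_ideal φ j ⟨Dst j, isAffineOpen_Dst j⟩ le_rfl]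
    exact Ideal.sum_mem _ fun a _ => Ideal.mul_mem_left _ _ (Ideal.subset_span ⟨a, rfl⟩)
  exact (cancel_epi (kernel.ι ψ)).mp ((kernel.condition ψ).trans comp_zero.symm)

/-- The map onto the ideal. -/
def toIdeal : EX r k m n (0 + 1) ⟶ ClSub.idealMod (II φ) := kernel.lift _ (Ed (entry φ) 0) (Ed_zero_toSubscheme φ)

theorem toIdeal_ι : toIdeal φ ≫ ClSub.idealModι (II φ) = Ed (entry φ) 0 := kernel.lift_ι _ _ _

theorem epi_toIdeal : Epi (toIdeal φ) := by
  haveI := SweepSix.ConormalSpec.isQCoh_idealMod (II φ)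
  haveI : Mono (ClSub.idealModι (II φ)) := inferInstanceAs (Mono (kernel.ι _))
  refine GrSysLib.epi_of_surjective_on_cover (toIdeal φ) (fun j => Dst j) isAffineOpen_Dst
    (fun x => ⟨_, (ProjSecLib.cover (R := k) (n := r) x).choose_spec⟩) fun j s => ?_
  have hmem := GenFlatStrat.idealModι_mem (II φ) ⟨Dst j, isAffineOpen_Dst j⟩ s
  rw [fitt_ideal φ j ⟨Dst j, isAffineOpen_Dst j⟩ le_rfl, Ideal.mem_span_range_iff_exists_fun] at hmem
  obtain ⟨c, hc⟩ := hmem
  refine ⟨ofCrd (ι := Idx m n 0) (e := m + 0) j le_rfl c, QCohLib.app_injective_of_mono (ClSub.idealModι (II φ)) _ ?_⟩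
  refine (congr($(toIdeal_ι φ).app (Dst j) (ofCrd (ι := Idx m n 0) (e := m + 0) j le_rfl c))).trans ?_
  rw [Ed_zero_app (entry φ) j le_rfl, crd_ofCrd]
  exact hc

theorem nonempty_image_iso : Nonempty (Abelian.image ((EC (entry φ)).d 1 0) ≅ ClSub.idealMod (II φ)) := by
  haveI := epi_toIdeal φ
  haveI : Mono (ClSub.idealModι (II φ)) := inferInstanceAs (Mono (kernel.ι _))
  haveI : StrongEpi (toIdeal φ) := strongEpi_of_epi _
  rw [show (EC (entry φ)).d 1 0 = Ed (entry φ) 0 from ChainComplex.of_d (EX r k m n) (Ed (entry φ)) 0]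
  exact ⟨Abelian.imageIsoImage _ ≪≫ (image.isoStrongEpiMono _ _ (toIdeal_ι φ)).symm⟩

theorem support_homology_subset (s : ℕ) :
    CohB1.support ((EC (entry φ)).homology (s + 1)) ⊆ ((II φ).support : Set (P)) := by
  intro x hx
  by_contra hxI
  obtain ⟨j, hxj⟩ := ProjSecLib.cover (R := k) (n := r) x
  let U : (P).affineOpens := ⟨Dst j, isAffineOpen_Dst j⟩
  have : ∃ a : Idx m n 0, x ∈ Scheme.basicOpen P (dh j (le_refl (Dst j)) (mnr (pm (entry φ)) a.1.1)) := by
    by_contra hn
    push Not at hn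
    refine hxI ((Scheme.IdealSheafData.mem_support_iff_of_mem (U := U) hxj).mpr ?_)
    rw [fitt_ideal φ j U le_rfl, Scheme.zeroLocus_span, Scheme.mem_zeroLocus_iff]
    rintro _ ⟨a, rfl⟩
    exact hn a
  obtain ⟨a, ha⟩ := this
  let V := Scheme.basicOpen P (dh j (le_refl (Dst j)) (mnr (pm (entry φ)) a.1.1))
  have hV : V ≤ Dst j := Scheme.basicOpen_le _ _
  refine notMem_support_homology (entry φ) s j hV ha
    (by have := (mem_idx.mp a.2).1; omega : a.1.1.card = m) ?_ hx
  have hu := QCohLib.isUnit_res (dh j (le_refl (Dst j)) (mnr (pm (entry φ)) a.1.1)) (V := V) le_rfl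
  simp only [dh, RingHom.comp_apply] at hu ⊢
  rw [← ConcreteCategory.comp_apply, ← Functor.map_comp] at hu
  exact hu

theorem isZero_EX (s : ℕ) (hs : n + 1 < s) : IsZero (EX r k m n s) := by
  obtain ⟨s, rfl⟩ : ∃ t, s = t + 1 := ⟨s - 1, by omega⟩
  haveI : IsEmpty (Idx m n s) := ⟨fun a => by
    have h1 : (a.1.1).card = m + s := (mem_idx.mp a.2).1
    have h2 : (a.1.1).card ≤ n := (Finset.card_le_univ _).trans_eq (Fintype.card_fin n)
    omega⟩
  exact (IsZero.iff_id_eq_zero _).2 (biproduct.hom_ext _ _ fun a => isEmptyElim a)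

theorem II_eq_top (hm : m = 0) : II φ = ⊤ := by
  subst hm
  rw [← Scheme.IdealSheafData.support_eq_bot_iff]
  refine SetLike.coe_injective (Set.eq_empty_of_forall_notMem fun x hx => ?_)
  obtain ⟨j, hxj⟩ := ProjSecLib.cover (R := k) (n := r) x
  let U : (P).affineOpens := ⟨Dst j, isAffineOpen_Dst j⟩
  have htop : (II φ).ideal U = ⊤ := by
    rw [fitt_ideal φ j U le_rfl, Ideal.eq_top_iff_one]
    refine Ideal.subset_span ⟨⟨(∅, 0), mem_idx.mpr ⟨rfl, by simp⟩⟩, ?_⟩
    show dh j _ (mnr (pm (entry φ)) ∅) = 1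
    rw [show mnr (pm (entry φ)) ∅ = 1 by simp [mnr, cL], map_one]
  have h := (Scheme.IdealSheafData.mem_support_iff_of_mem (U := U) hxj).mp hx
  rw [htop, Scheme.mem_zeroLocus_iff] at h
  exact h 1 trivial (by rw [Scheme.basicOpen_of_isUnit _ isUnit_one]; exact hxj)

/-- **Regularity of the ideal of maximal minors.** -/
theorem isMRegular_II (hdim : topologicalKrullDim ((II φ).support : Set (P)) ≤ 1) :
    Curv2.IsMRegular k r (ClSub.idealMod (II φ)) m := by
  rcases Nat.eq_zero_or_pos m with hm | hm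
  · subst hm
    intro i hi hir
    rw [II_eq_top φ rfl]
    obtain ⟨e⟩ := BlowPtLib.nonempty_idealMod_top (P)
    refine SerreVanLib.subsingleton_HH_of_iso (HilbPolyLib.congrLeft (e ≪≫ omega r k) _) i ?_
    exact isMRegular_twist_neg (d := ((0 : ℕ) : ℤ)) le_rfl i hi hir
  have h := (Groth.Agent.S12910.result k r (EC (entry φ)) (n + 1) (fun s hs => isZero_EX s hs)
    (fun s => isCoh_EX s) ((m : ℤ) - 1) (fun s => isMRegular_EX hm s) (fun i hi => ?_)).2
  · obtain ⟨e⟩ := nonempty_image_iso φ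
    intro i hi hir
    have := h i hi hir
    rw [show (m : ℤ) - 1 + 1 - i = m - i by ring] at this
    exact SerreVanLib.subsingleton_HH_of_iso (HilbPolyLib.congrLeft e.symm _) i this
  · obtain ⟨s, rfl⟩ : ∃ s, i = s + 1 := ⟨i - 1, by omega⟩
    exact le_trans (Topology.IsInducing.topologicalKrullDim_le
      (f := Set.inclusion (support_homology_subset φ s)) (Topology.IsEmbedding.inclusion _).isInducing) hdim

end ENComplexLib
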