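import Groth.Agent.ENComplexLib.Minors

/-!
# The Eagon–Northcott complex in coordinates
-/

set_option autoImplicit false
universe u v w

noncomputable section

namespace ENComplexLib

open Finset

variable {A : Type u} [CommRing A] {m n : ℕ}

/-- The index set of the `j`-th term. -/
@[irreducible] def idxSet (m n j : ℕ) : Finset (Finset (Fin n) × (Fin m → ℕ)) :=
  (Finset.univ : Finset (Fin n)).powersetCard (m + j) ×ˢ Finset.piAntidiag (Finset.univ : Finset (Fin m)) j

/-- The basis of the `j`-th term. -/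
abbrev Idx (m n j : ℕ) : Type := ↥(idxSet m n j)

theorem mem_idx {j : ℕ} {S : Finset (Fin n)} {e : Fin m → ℕ} :
    (S, e) ∈ idxSet m n j ↔ S.card = m + j ∧ ∑ i, e i = j := by
  unfold idxSet
  simp [Finset.mem_piAntidiag]

theorem Idx.exp_zero (a : Idx m n 0) : a.1.2 = 0 := funext fun i =>
  (Finset.sum_eq_zero_iff.mp (mem_idx.mp a.2).2) i (Finset.mem_univ i)

/-- Vectors as elements of the complex. -/
def emb {j : ℕ} : (Idx m n j → A) →ₗ[A] V A m n where
  toFun v S e := if h : (S, e) ∈ idxSet m n j then v ⟨(S, e), h⟩ else 0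
  map_add' v w := funext fun S => funext fun e => by simp only [Pi.add_apply]; split_ifs <;> simp
  map_smul' c v := funext fun S => funext fun e => by simp only [Pi.smul_apply, RingHom.id_apply]; split_ifs <;> simp

theorem emb_gr {j : ℕ} (v : Idx m n j → A) : Gr j (emb v) := fun _ _ h => dif_neg fun h' => h (mem_idx.mp h')

theorem emb_apply {j : ℕ} (v : Idx m n j → A) (a : Idx m n j) : emb v a.1.1 a.1.2 = v a := dif_pos a.2

theorem eq_emb {j : ℕ} {x : V A m n} (hx : Gr j x) : x = emb fun a : Idx m n j => x a.1.1 a.1.2 := by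
  funext S e
  show x S e = dite _ _ _
  split_ifs with h
  · rfl
  · exact hx S e fun h' => h (mem_idx.mpr h')

theorem eq_sum_single {j : ℕ} (v : Idx m n j → A) : v = ∑ a, v a • Pi.single a (1 : A) := by
  classical
  funext b
  simp [Finset.sum_apply, Pi.single_apply]

variable (φ : Fin m → Fin n → A)

open Classical in
/-- The differential in coordinates. -/
def D (j : ℕ) (a : Idx m n (j + 1)) (b : Idx m n j) : A := dEN φ (emb (Pi.single a 1)) b.1.1 b.1.2

theorem dEN_emb (j : ℕ) (v : Idx m n (j + 1) → A) :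
    dEN φ (emb v) = emb fun b => ∑ a, v a * D φ j a b := by
  classical
  rw [eq_emb ((emb_gr v).dEN φ)]
  refine congrArg _ (funext fun b => ?_)
  conv_lhs => rw [eq_sum_single v, map_sum, map_sum]
  simp only [map_smul, Finset.sum_apply, Pi.smul_apply, smul_eq_mul]
  rfl

theorem cc_emb (v : Idx m n 0 → A) : cc φ (emb v) = ∑ a, v a * mnr φ a.1.1 := by
  classical
  conv_lhs => rw [eq_sum_single v, map_sum, map_sum]
  refine Finset.sum_congr rfl fun a _ => ?_
  rw [map_smul, map_smul, smul_eq_mul]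
  refine congrArg (v a * ·) ?_
  show cL (List.ofFn φ) (atE 0 (emb (Pi.single a 1))) ∅ = _
  have e : atE 0 (emb (Pi.single a (1 : A))) = Pi.single a.1.1 1 := by
    funext S
    show emb (Pi.single a (1 : A)) S 0 = _
    by_cases hS : S = a.1.1
    · subst hS
      rw [Pi.single_eq_same, ← Idx.exp_zero a, emb_apply, Pi.single_eq_same]
    · rw [Pi.single_eq_of_ne hS]
      show dite _ _ _ = _
      split_ifs with h
      · exact Pi.single_eq_of_ne (fun h' => hS (congrArg (fun p : Idx m n 0 => p.1.1) h')) _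
      · rfl
  rw [e]; rfl

theorem D_comp (j : ℕ) (a : Idx m n (j + 1 + 1)) (c : Idx m n j) : ∑ b, D φ (j + 1) a b * D φ j b c = 0 := by
  classical
  have h := dEN_dEN φ (emb (Pi.single a (1 : A)))
  rw [dEN_emb φ (j + 1), dEN_emb φ j] at h
  have := congrFun (congrFun h c.1.1) c.1.2
  rw [emb_apply] at this
  simpa [Pi.single_apply] using this

theorem D_mnr (a : Idx m n 1) : ∑ b, D φ 0 a b * mnr φ b.1.1 = 0 := by
  classical
  have h := cc_dEN φ (emb (Pi.single a (1 : A)))
  rw [dEN_emb φ 0, cc_emb] at h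
  simpa [Pi.single_apply] using h

variable (ψ : Fin m → Fin n → A) (hψ : ∀ i l, ∑ t, φ i t * ψ l t = if i = l then 1 else 0)

include hψ in
theorem exact_D (j : ℕ) (v : Idx m n (j + 1) → A) (h : ∀ b, ∑ a, v a * D φ j a b = 0) :
    ∃ w : Idx m n (j + 1 + 1) → A, ∀ a, ∑ c, w c * D φ (j + 1) c a = v a := by
  obtain ⟨y, hy, e⟩ := exact_pos φ ψ hψ (Nat.succ_pos j) (emb_gr v) (by
    rw [dEN_emb φ j, show (fun b => ∑ a, v a * D φ j a b) = 0 from funext h, map_zero])
  rw [eq_emb hy, dEN_emb φ (j + 1)] at e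
  exact ⟨_, fun a => by simpa [emb_apply] using congrFun (congrFun e a.1.1) a.1.2⟩

include hψ in
theorem exact_mnr (v : Idx m n 0 → A) (h : ∑ a, v a * mnr φ a.1.1 = 0) :
    ∃ w : Idx m n 1 → A, ∀ a, ∑ c, w c * D φ 0 c a = v a := by
  obtain ⟨y, hy, e⟩ := exact_zero φ ψ hψ (emb_gr v) (by rw [cc_emb, h])
  rw [eq_emb hy, dEN_emb φ 0] at e
  exact ⟨_, fun a => by simpa [emb_apply] using congrFun (congrFun e a.1.1) a.1.2⟩

section Map

variable {B : Type w} [CommRing B] (f : A →+* B)

theorem map_iota (g : Fin n → A) (x : V A m n) (S : Finset (Fin n)) (e : Fin m → ℕ) :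
    f (iota _ g x S e) = iota _ (f ∘ g) (fun T d => f (x T d)) S e := by
  simp [iota_apply, map_sum, map_sgn]

theorem map_dEN (x : V A m n) (S : Finset (Fin n)) (e : Fin m → ℕ) :
    f (dEN φ x S e) = dEN (fun i => f ∘ φ i) (fun T d => f (x T d)) S e := by
  simp only [dEN_apply, Finset.sum_apply, map_sum, map_iota]
  rfl

theorem map_D (j : ℕ) (a : Idx m n (j + 1)) (b : Idx m n j) : f (D φ j a b) = D (fun i => f ∘ φ i) j a b := by
  classical
  rw [D, map_dEN, D]
  refine congrArg (fun x : V B m n => dEN (fun i => f ∘ φ i) x b.1.1 b.1.2) (funext fun S => funext fun e => ?_)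
  show f (dite _ _ _) = dite _ _ _
  split_ifs <;> simp [Pi.single_apply, apply_ite f]

theorem map_cL : ∀ (fs : List (Fin n → A)) (z : Finset (Fin n) → A) (S : Finset (Fin n)),
    f (cL fs z S) = cL (fs.map (f ∘ ·)) (f ∘ z) S
  | [], _, _ => rfl
  | g :: fs, z, S => by
    show f (cL fs (iota A g z) S) = cL (fs.map (f ∘ ·)) (iota B (f ∘ g) (f ∘ z)) S
    rw [map_cL fs]
    refine congrArg (fun y => cL (fs.map (f ∘ ·)) y S) (funext fun T => ?_)
    simp [iota_apply, map_sum, map_sgn]

theorem map_mnr (S : Finset (Fin n)) : f (mnr φ S) = mnr (fun i => f ∘ φ i) S := by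
  classical
  rw [mnr, map_cL, mnr, List.map_ofFn]
  refine congrArg (fun z : Finset (Fin n) → B => cL _ z ∅) (funext fun T => ?_)
  simp [Pi.single_apply, apply_ite f]

end Map

section Degree

variable {ι' : Type*} [AddMonoid ι'] {σ : Type*} [SetLike σ A] [AddSubmonoidClass σ A] (P : ℕ → σ)

variable {φ} (h0 : ∀ (d : ℕ) (S : Finset (Fin n)) (u : Fin n) (a : A), a ∈ P d → sgn S u * a ∈ P d)
  (h1 : (1 : A) ∈ P 0) (hmul : ∀ (d : ℕ) (a b : A), a ∈ P 1 → b ∈ P d → a * b ∈ P (d + 1))
  (hφ : ∀ i t, φ i t ∈ P 1)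

include h0 hmul in
theorem iota_mem {d : ℕ} {g : Fin n → A} (hg : ∀ t, g t ∈ P 1) {z : Finset (Fin n) → A} (hz : ∀ S, z S ∈ P d)
    (S : Finset (Fin n)) : iota A g z S ∈ P (d + 1) := by
  rw [iota_apply]
  refine sum_mem fun u _ => ?_
  rw [smul_eq_mul, mul_assoc]
  exact h0 _ _ _ _ (hmul _ _ _ (hg u) (hz _))

include h0 h1 hmul hφ in
theorem D_mem (j : ℕ) (a : Idx m n (j + 1)) (b : Idx m n j) : D φ j a b ∈ P 1 := by
  classical
  simp only [D, dEN_apply, Finset.sum_apply, iota_apply, pw_apply, Pi.smul_apply, low_apply]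
  refine sum_mem fun i _ => sum_mem fun u _ => ?_
  show sgn _ u * φ i u * dite _ _ _ ∈ _
  rw [mul_assoc]
  refine h0 _ _ _ _ (hmul 0 _ _ (hφ i u) ?_)
  split_ifs with h
  · rw [Pi.single_apply]
    split_ifs
    · exact h1
    · exact zero_mem _
  · exact zero_mem _

include h0 hmul in
theorem cL_mem : ∀ (fs : List (Fin n → A)) (_ : ∀ f ∈ fs, ∀ t, f t ∈ P 1) {d : ℕ} {z : Finset (Fin n) → A},
    (∀ S, z S ∈ P d) → ∀ S, cL fs z S ∈ P (d + fs.length)
  | [], _, d, z, hz, S => by simpa [cL] using hz S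
  | g :: fs, hf, d, z, hz, S => by
    have := cL_mem fs (fun f h => hf f (List.mem_cons_of_mem g h)) (d := d + 1)
      (iota_mem P h0 hmul (hf g List.mem_cons_self) hz) S
    rw [List.length_cons, show d + (fs.length + 1) = d + 1 + fs.length by omega]
    exact this

include h0 h1 hmul hφ in
theorem mnr_mem (S : Finset (Fin n)) : mnr φ S ∈ P m := by
  classical
  have := cL_mem P h0 hmul (List.ofFn φ) (fun f hf t => by
    obtain ⟨i, rfl⟩ := (List.mem_ofFn' _ _).mp hf; exact hφ i t) (d := 0) (z := Pi.single S 1) (fun T => by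
      rw [Pi.single_apply]; split_ifs
      · exact h1
      · exact zero_mem _) ∅
  rwa [List.length_ofFn, zero_add] at this

end Degree

end ENComplexLib
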