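import Groth.Agent.ENComplexLib.Complex
import Groth.Agent.FittLib.Minors

/-!
# The augmentation of the Eagon–Northcott complex and maximal minors
-/

set_option autoImplicit false
universe u v w

noncomputable section

namespace ENComplexLib

open Finset

variable {A : Type u} [CommRing A] {n : ℕ}

/-- Products of vectors. -/
def W : (d : ℕ) → (Fin d → Fin n → A) → (Finset (Fin n) → A)
  | 0, _ => Pi.single ∅ 1
  | d + 1, z => eps A (z 0) (W d (z ∘ Fin.succ))

theorem W_sz : ∀ (d : ℕ) (z : Fin d → Fin n → A), Sz d (W d z)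
  | 0, _ => fun S hS => Pi.single_eq_of_ne (fun h => hS (by rw [h, Finset.card_empty])) _
  | d + 1, z => (W_sz d (z ∘ Fin.succ)).eps _

theorem iota_W (f : Fin n → A) : ∀ (d : ℕ) (z : Fin (d + 1) → Fin n → A),
    iota A f (W (d + 1) z) = ∑ j : Fin (d + 1), ((-1 : A) ^ (j : ℕ) * ∑ t, f t * z j t) • W d (z ∘ j.succAbove)
  | 0, z => by
    have e := iota_eps f (z 0) (W 0 (z ∘ Fin.succ))
    have h0 : iota A f (W 0 (z ∘ Fin.succ)) = 0 := by
      funext S
      rw [iota_apply]
      refine Finset.sum_eq_zero fun u _ => ?_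
      rw [show W 0 (z ∘ Fin.succ) (insert u S) = 0 from Pi.single_eq_of_ne (Finset.insert_ne_empty _ _) _, smul_zero]
    rw [h0, map_zero, add_zero] at e
    rw [show W (0 + 1) z = eps A (z 0) (W 0 (z ∘ Fin.succ)) from rfl, e, Fin.sum_univ_one]
    simp [W]
  | d + 1, z => by
    have e := iota_eps f (z 0) (W (d + 1) (z ∘ Fin.succ))
    rw [iota_W f d (z ∘ Fin.succ), map_sum] at e
    rw [show W (d + 1 + 1) z = eps A (z 0) (W (d + 1) (z ∘ Fin.succ)) from rfl, eq_sub_of_add_eq e]
    conv_rhs => rw [Fin.sum_univ_succ]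
    rw [sub_eq_add_neg, ← Finset.sum_neg_distrib]
    refine congr_arg₂ (· + ·) ?_ (Finset.sum_congr rfl fun j _ => ?_)
    · simp [Fin.succAbove_zero]
    · rw [map_smul, show W (d + 1) (z ∘ j.succ.succAbove) = eps A (z 0) (W d ((z ∘ Fin.succ) ∘ j.succAbove)) from ?_,
        ← neg_smul]
      · refine congrArg (· • eps A (z 0) (W d ((z ∘ Fin.succ) ∘ j.succAbove))) ?_
        simp [pow_succ]
      · show eps A ((z ∘ j.succ.succAbove) 0) (W d ((z ∘ j.succ.succAbove) ∘ Fin.succ)) = _
        have e1 : (z ∘ j.succ.succAbove) 0 = z 0 := by simp [Fin.succ_succAbove_zero]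
        have e2 : (z ∘ j.succ.succAbove) ∘ Fin.succ = (z ∘ Fin.succ) ∘ j.succAbove :=
          funext fun a => by simp [Fin.succ_succAbove_succ]
        rw [e1, e2]

/-- Iterated contraction of a product is a determinant. -/
theorem cL_W : ∀ (d : ℕ) (f : Fin d → Fin n → A) (z : Fin d → Fin n → A),
    cL (List.ofFn f) (W d z) ∅ = Matrix.det (Matrix.of fun i j => ∑ t, f i t * z j t)
  | 0, f, z => by simp [cL, W]
  | d + 1, f, z => by
    rw [List.ofFn_succ, show cL (f 0 :: List.ofFn fun i => f i.succ) (W (d + 1) z) =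
      cL (List.ofFn fun i => f i.succ) (iota A (f 0) (W (d + 1) z)) from rfl, iota_W, map_sum, Finset.sum_apply,
      Matrix.det_succ_row_zero]
    refine Finset.sum_congr rfl fun j _ => ?_
    rw [map_smul, Pi.smul_apply, cL_W d _ (z ∘ j.succAbove)]
    simp only [Matrix.submatrix, Matrix.of_apply, smul_eq_mul, Function.comp_apply]

/-- Basis vectors of subsets are products. -/
theorem exists_single_eq_W : ∀ (d : ℕ) (S : Finset (Fin n)), S.card = d →
    ∃ (a : A) (s : Fin d → Fin n), (Pi.single S 1 : Finset (Fin n) → A) = a • W d (fun i => Pi.single (s i) 1)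
  | 0, S, h => ⟨1, Fin.elim0, by rw [Finset.card_eq_zero.mp h, one_smul]; rfl⟩
  | d + 1, S, h => by
    obtain ⟨t, ht⟩ := Finset.card_pos.mp (show 0 < S.card by omega)
    obtain ⟨a, s, e⟩ := exists_single_eq_W d (S.erase t) (by rw [Finset.card_erase_of_mem ht, h]; omega)
    refine ⟨sgn S t * a, Fin.cons t s, ?_⟩
    have e2 : eps A (Pi.single t (1 : A)) (Pi.single (S.erase t) (1 : A)) = (sgn S t : A) • (Pi.single S (1 : A) : Finset (Fin n) → A) := by
      funext T
      rw [eps_apply, Pi.smul_apply]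
      by_cases hT : T = S
      · subst hT
        rw [Finset.sum_eq_single t (fun u _ hu => by rw [Pi.single_eq_of_ne hu, mul_zero, zero_smul])
          (fun h => absurd ht h)]
        simp
      · rw [Pi.single_eq_of_ne hT, smul_zero]
        refine Finset.sum_eq_zero fun u hu => ?_
        by_cases hut : u = t
        · subst hut
          rw [Pi.single_eq_of_ne (show T.erase u ≠ S.erase u from fun he => hT (by
            rw [← Finset.insert_erase hu, he, Finset.insert_erase ht])), smul_zero]
        · rw [Pi.single_eq_of_ne hut, mul_zero, zero_smul]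
    have h3 : W (d + 1) (fun i => Pi.single ((Fin.cons t s : Fin (d + 1) → Fin n) i) (1 : A)) =
        eps A (Pi.single t (1 : A)) (W d fun i => Pi.single (s i) 1) := rfl
    rw [h3, mul_smul, ← map_smul (eps A (Pi.single t (1 : A))), ← e, e2, smul_smul, sgn_sq, one_smul]

variable {m : ℕ} (φ : Fin m → Fin n → A)

/-- The minor attached to a subset. -/
def mnr (S : Finset (Fin n)) : A := cL (List.ofFn φ) (Pi.single S 1) ∅

theorem det_eq_sum (s : Fin m → Fin n) : Matrix.det (Matrix.of fun i j => φ i (s j)) =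
    ∑ S ∈ Finset.univ.powersetCard m, W m (fun i => Pi.single (s i) (1 : A)) S * mnr φ S := by
  classical
  have h := cL_W m φ (fun i => Pi.single (s i) (1 : A))
  have hW : W m (fun i => Pi.single (s i) (1 : A)) = ∑ S ∈ Finset.univ.powersetCard m,
      W m (fun i => Pi.single (s i) (1 : A)) S • (Pi.single S 1 : Finset (Fin n) → A) := by
    funext T
    rw [Finset.sum_apply]
    by_cases hT : T.card = m
    · rw [Finset.sum_eq_single T (fun S _ hS => by rw [Pi.smul_apply, Pi.single_eq_of_ne hS.symm, smul_zero])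
        (fun hn => absurd (Finset.mem_powersetCard.mpr ⟨Finset.subset_univ _, hT⟩) hn)]
      simp
    · rw [W_sz m _ T hT, Finset.sum_eq_zero fun S hS => ?_]
      rw [Pi.smul_apply, Pi.single_eq_of_ne (fun h => hT (by rw [h]; exact (Finset.mem_powersetCard.mp hS).2)), smul_zero]
  rw [hW, map_sum, Finset.sum_apply] at h
  refine Eq.trans ?_ (h.symm.trans (Finset.sum_congr rfl fun S _ => by rw [map_smul, Pi.smul_apply]; rfl))
  exact congrArg Matrix.det (Matrix.ext fun i j => by simp [Pi.single_apply])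

theorem exists_mnr_eq {S : Finset (Fin n)} (hS : S.card = m) :
    ∃ (a : A) (s : Fin m → Fin n), mnr φ S = a * Matrix.det (Matrix.of fun i j => φ i (s j)) := by
  obtain ⟨a, s, e⟩ := exists_single_eq_W (A := A) m S hS
  refine ⟨a, s, ?_⟩
  rw [mnr, e, map_smul, Pi.smul_apply, smul_eq_mul, cL_W]
  exact congrArg (a * ·) (congrArg Matrix.det (Matrix.ext fun i j => by simp [Pi.single_apply]))

/-- The maximal minors span the ideal of minors of the columns. -/
theorem span_mnr_eq : Ideal.span (Set.range fun S : {S : Finset (Fin n) // S.card = m} => mnr φ S.1) =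
    FittLib.J (Set.range fun t => fun i => φ i t) m := by
  classical
  refine le_antisymm (Ideal.span_le.mpr ?_) (FittLib.J_le_iff.mpr fun z e hz => ?_)
  · rintro _ ⟨⟨S, hS⟩, rfl⟩
    obtain ⟨a, s, h⟩ := exists_mnr_eq φ hS
    show mnr φ S ∈ _
    rw [h]
    refine Ideal.mul_mem_left _ a (FittLib.minor_mem (z := fun b i => φ i (s b)) id fun b => ⟨s b, rfl⟩)
  · by_cases he : Function.Injective e
    · choose s hs using hz
      let σ := Equiv.ofBijective e ((Fintype.bijective_iff_injective_and_card e).mpr ⟨he, rfl⟩)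
      have hm : FittLib.minor z e = Matrix.det ((Matrix.of fun i j => φ i (s j)).submatrix σ id) := by
        refine congrArg Matrix.det (Matrix.ext fun a b => ?_)
        simp [σ, ← hs]
      rw [hm, Matrix.det_permute]
      refine Ideal.mul_mem_left _ _ ?_
      rw [det_eq_sum]
      exact Ideal.sum_mem _ fun S hS => Ideal.mul_mem_left _ _
        (Ideal.subset_span ⟨⟨S, (Finset.mem_powersetCard.mp hS).2⟩, rfl⟩)
    · rw [FittLib.minor_eq_zero_of_not_injective z he]
      exact zero_mem _

/-- A unit minor gives a right inverse. -/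
theorem exists_rightInverse {S : Finset (Fin n)} (hS : S.card = m) (hu : IsUnit (mnr φ S)) :
    ∃ ψ : Fin m → Fin n → A, ∀ i l, ∑ t, φ i t * ψ l t = if i = l then 1 else 0 := by
  classical
  obtain ⟨a, s, h⟩ := exists_mnr_eq φ hS
  rw [h] at hu
  let M : Matrix (Fin m) (Fin m) A := Matrix.of fun i j => φ i (s j)
  have hM : IsUnit M.det := (IsUnit.mul_iff.mp hu).2
  refine ⟨fun l t => ∑ b, if s b = t then M⁻¹ b l else 0, fun i l => ?_⟩
  have hml := congrFun₂ (Matrix.mul_nonsing_inv M hM) i l
  rw [Matrix.mul_apply, Matrix.one_apply] at hml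
  rw [← hml]
  simp only [Finset.mul_sum, mul_ite, mul_zero]
  rw [Finset.sum_comm]
  exact Finset.sum_congr rfl fun b _ => by simp [M]

end ENComplexLib
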