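import Groth.Agent.EulerPnLib.Homs
import Groth.Agent.PicPnLib.Twist

/-!
# Matrices of forms as morphisms of sums of twists
-/

set_option autoImplicit false
set_option linter.style.haveILetI false
set_option linter.unusedSectionVars false
set_option maxHeartbeats 1000000
set_option backward.isDefEq.respectTransparency false
set_option backward.isDefEq.respectTransparency.types false
universe u

open CategoryTheory CategoryTheory.Limits AlgebraicGeometry TopologicalSpace Opposite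
open GradedCechLib (deh)
open EulerPnLib (ev val_smul' ev_deh mulHomX val_mulHomX)
open AmpleLib (res GenOn)

noncomputable section

namespace ENComplexLib

variable {r : ℕ} {k : Type u} [Field k]

local notation "P" => CohB1.ProjSpace r k
local notation "O'" => Twist.twistProjSpace r k
local notation "ℳ" => CohB1.polyGrading r k
local notation "Dst" => QCohLib.stdOpen r k

/-- The unit `1/X_j^e` of `O(-e)`. -/
def gU (j : Fin (r + 1)) (e : ℕ) : TwistLib.Unit' ℳ (-(e : ℤ)) (Dst j) :=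
  ⟨0, e, 1, MvPolynomial.X j ^ e, SetLike.GradedOne.one_mem,
    by simpa using SetLike.pow_mem_graded e (GradedCechLib.X_mem r k j), by omega,
    fun x h => x.1.isPrime.ne_top ((Ideal.eq_top_iff_one _).mpr h),
    fun x h => x.2 (x.1.isPrime.mem_of_pow_mem e h)⟩

/-- The generator of `O(-e)` on a chart. -/
def gen (j : Fin (r + 1)) (e : ℕ) : Γ(O' (-(e : ℤ)), Dst j) := (gU j e).sec

theorem gen_genOn (j : Fin (r + 1)) (e : ℕ) : GenOn (O' (-(e : ℤ))) (gen (r := r) (k := k) j e) := (gU j e).genOn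

theorem val_gen (j : Fin (r + 1)) (e : ℕ) (x : Dst j) :
    TwistLib.val (gen (r := r) (k := k) j e) x =
      Localization.mk 1 (⟨MvPolynomial.X j ^ e, (gU j e).den_nin x⟩ : x.1.asHomogeneousIdeal.toIdeal.primeCompl) := rfl

/-- The chart function of a form, restricted. -/
def dh (j : Fin (r + 1)) {V : (P).Opens} (hV : V ≤ Dst j) : MvPolynomial (Fin (r + 1)) k →+* Γ(P, V) :=
  ((P).presheaf.map (homOfLE hV).op).hom.comp (deh r k j)

theorem mulHomX_gen {d e e' : ℕ} (g : ℳ d) (hq : -(e' : ℤ) + d = -(e : ℤ)) (j : Fin (r + 1)) {V : (P).Opens}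
    (hV : V ≤ Dst j) :
    (mulHomX g hq).app V (res (O' (-(e' : ℤ))) hV (gen j e')) =
      dh j hV (g : MvPolynomial (Fin (r + 1)) k) • res (O' (-(e : ℤ))) hV (gen j e) := by
  refine TwistLib.sec_ext fun x => ?_
  rw [val_mulHomX]
  refine Eq.trans ?_ (val_smul' (dh j hV (g : MvPolynomial (Fin (r + 1)) k)) _ x).symm
  have h1 : ev ℳ x (dh j hV (g : MvPolynomial (Fin (r + 1)) k)) =
      ev ℳ (⟨x.1, hV x.2⟩ : Dst j) (deh r k j (g : MvPolynomial (Fin (r + 1)) k)) := rfl
  rw [h1, ev_deh r k j ((MvPolynomial.mem_homogeneousSubmodule _ _).1 g.2)]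
  show _ * TwistLib.val (gen j e') ⟨x.1, hV x.2⟩ = _ * TwistLib.val (gen j e) ⟨x.1, hV x.2⟩
  rw [val_gen, val_gen, ← Localization.mk_one_eq_algebraMap, Localization.mk_mul, Localization.mk_mul,
    Localization.mk_eq_mk_iff, Localization.r_iff_exists]
  refine ⟨1, ?_⟩
  have he : e' = e + d := by omega
  simp only [he, Submonoid.coe_one, one_mul, mul_one, Submonoid.coe_mul, pow_add]
  ring

variable {ι κ : Type} [Fintype ι] [Fintype κ]

variable (r k ι) in
/-- A sum of copies of `O(-e)`. -/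
abbrev T (e : ℕ) : (P).Modules := ⨁ fun _ : ι => O' (-(e : ℤ))

/-- The morphism given by a matrix of forms. -/
def matHom {d e e' : ℕ} (g : ι → κ → ℳ d) (hq : -(e' : ℤ) + d = -(e : ℤ)) : T r k ι e' ⟶ T r k κ e :=
  biproduct.matrix fun a b => mulHomX (g a b) hq

/-- The coordinates of a section. -/
def crd {e : ℕ} (j : Fin (r + 1)) {V : (P).Opens} (hV : V ≤ Dst j) (t : Γ(T r k ι e, V)) (a : ι) : Γ(P, V) :=
  ((gen_genOn j e V hV).2 ((biproduct.π (fun _ : ι => O' (-(e : ℤ))) a).app V t)).choose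

theorem crd_spec {e : ℕ} (j : Fin (r + 1)) {V : (P).Opens} (hV : V ≤ Dst j) (t : Γ(T r k ι e, V)) (a : ι) :
    crd j hV t a • res (O' (-(e : ℤ))) hV (gen j e) = (biproduct.π (fun _ : ι => O' (-(e : ℤ))) a).app V t :=
  ((gen_genOn j e V hV).2 ((biproduct.π (fun _ : ι => O' (-(e : ℤ))) a).app V t)).choose_spec

/-- The section with given coordinates. -/
def ofCrd {e : ℕ} (j : Fin (r + 1)) {V : (P).Opens} (hV : V ≤ Dst j) (c : ι → Γ(P, V)) : Γ(T r k ι e, V) :=
  ∑ a, (biproduct.ι (fun _ : ι => O' (-(e : ℤ))) a).app V (c a • res (O' (-(e : ℤ))) hV (gen j e))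

theorem eq_sum_proj {e : ℕ} {V : (P).Opens} (t : Γ(T r k ι e, V)) :
    t = ∑ a, (biproduct.ι (fun _ : ι => O' (-(e : ℤ))) a).app V ((biproduct.π (fun _ : ι => O' (-(e : ℤ))) a).app V t) := by
  let ev : (T r k ι e ⟶ T r k ι e) →+ Γ(T r k ι e, V) := AddMonoidHom.mk' (fun f => f.app V t) fun f g => rfl
  refine (congrArg ev (biproduct.total (f := fun _ : ι => O' (-(e : ℤ))))).symm.trans ?_
  rw [map_sum]
  rfl

theorem ofCrd_crd {e : ℕ} (j : Fin (r + 1)) {V : (P).Opens} (hV : V ≤ Dst j) (t : Γ(T r k ι e, V)) :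
    ofCrd j hV (crd j hV t) = t :=
  ((eq_sum_proj t).trans (Finset.sum_congr rfl fun a _ => congrArg _ (crd_spec j hV t a).symm)).symm

theorem crd_ofCrd {e : ℕ} (j : Fin (r + 1)) {V : (P).Opens} (hV : V ≤ Dst j) (c : ι → Γ(P, V)) :
    crd j hV (ofCrd (e := e) j hV c) = c := by
  classical
  funext b
  refine (gen_genOn j e V hV).1 ?_
  show crd j hV _ b • res (O' (-(e : ℤ))) hV (gen j e) = c b • res (O' (-(e : ℤ))) hV (gen j e)
  rw [crd_spec, ofCrd, map_sum]
  refine (Finset.sum_eq_single b (fun a _ hab => ?_) fun h => absurd (Finset.mem_univ b) h).trans ?_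
  · rw [← ConcreteCategory.comp_apply, ← Scheme.Modules.Hom.comp_app, biproduct.ι_π_ne _ hab]
    rfl
  · rw [← ConcreteCategory.comp_apply, ← Scheme.Modules.Hom.comp_app, biproduct.ι_π_self]
    rfl

theorem crd_matHom {d e e' : ℕ} (g : ι → κ → ℳ d) (hq : -(e' : ℤ) + d = -(e : ℤ)) (j : Fin (r + 1))
    {V : (P).Opens} (hV : V ≤ Dst j) (t : Γ(T r k ι e', V)) (b : κ) :
    crd j hV ((matHom g hq).app V t) b = ∑ a, crd j hV t a * dh j hV (g a b : MvPolynomial (Fin (r + 1)) k) := by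
  refine (gen_genOn j e V hV).1 ?_
  show crd j hV _ b • res (O' (-(e : ℤ))) hV (gen j e) = (∑ a, crd j hV t a * dh j hV _) • res (O' (-(e : ℤ))) hV (gen j e)
  rw [crd_spec, Finset.sum_smul]
  conv_lhs => rw [eq_sum_proj t]
  rw [map_sum, map_sum]
  refine Finset.sum_congr rfl fun a _ => ?_
  rw [← ConcreteCategory.comp_apply, ← ConcreteCategory.comp_apply, ← Scheme.Modules.Hom.comp_app,
    ← Scheme.Modules.Hom.comp_app, matHom, biproduct.ι_matrix_assoc, biproduct.lift_π, ← crd_spec j hV t a,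
    QCohLib.app_smul]
  refine (congrArg (crd j hV t a • ·) (mulHomX_gen (g a b) hq j hV)).trans ?_
  exact smul_smul _ _ _

theorem crd_zero {e : ℕ} (j : Fin (r + 1)) {V : (P).Opens} (hV : V ≤ Dst j) (a : ι) :
    crd j hV (0 : Γ(T r k ι e, V)) a = 0 := by
  refine (gen_genOn j e V hV).1 ?_
  show crd j hV _ a • res (O' (-(e : ℤ))) hV (gen j e) = (0 : Γ(P, V)) • res (O' (-(e : ℤ))) hV (gen j e)
  rw [crd_spec, map_zero, zero_smul]

variable {ν : Type} [Fintype ν]

theorem matHom_comp {d d' d'' e e' e'' : ℕ} (g : ι → κ → ℳ d) (g' : κ → ν → ℳ d')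
    (hq : -(e'' : ℤ) + d = -(e' : ℤ)) (hq' : -(e' : ℤ) + d' = -(e : ℤ))
    (h : ∀ a c, ∑ b, (g a b : MvPolynomial (Fin (r + 1)) k) * (g' b c : MvPolynomial (Fin (r + 1)) k) = 0)
    (hd : d'' = d + d') : matHom g hq ≫ matHom g' hq' = 0 := by
  refine biproduct.hom_ext' _ _ fun a => biproduct.hom_ext _ _ fun c => ?_
  rw [matHom, matHom, biproduct.ι_matrix_assoc, Category.assoc, biproduct.matrix_π, biproduct.lift_desc,
    comp_zero, zero_comp]
  refine Scheme.Modules.hom_ext _ _ fun V => ConcreteCategory.hom_ext _ _ fun t => TwistLib.sec_ext fun x => ?_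
  let ev' : (O' (-(e'' : ℤ)) ⟶ O' (-(e : ℤ))) →+ Twist.Loc ℳ x.1 :=
    AddMonoidHom.mk' (fun f => TwistLib.val (f.app V t) x) fun f g => rfl
  show ev' (∑ b, mulHomX (g a b) hq ≫ mulHomX (g' b c) hq') = ev' 0
  rw [map_sum, map_zero]
  calc ∑ b, ev' (mulHomX (g a b) hq ≫ mulHomX (g' b c) hq')
      = ∑ b, algebraMap (MvPolynomial (Fin (r + 1)) k) (Twist.Loc ℳ x.1)
          ((g a b : MvPolynomial (Fin (r + 1)) k) * (g' b c : MvPolynomial (Fin (r + 1)) k)) * TwistLib.val t x := by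
        refine Finset.sum_congr rfl fun b _ => ?_
        show TwistLib.val ((mulHomX (g' b c) hq').app V ((mulHomX (g a b) hq).app V t)) x = _
        rw [val_mulHomX, val_mulHomX, map_mul]
        ring
    _ = 0 := by rw [← Finset.sum_mul, ← map_sum, h, map_zero, zero_mul]

end ENComplexLib
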