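import Groth.Agent.ENComplexLib.Mat
import Groth.Agent.ENComplexLib.Twists
import Groth.Agent.PnCohLib.Split
import Groth.Agent.RefDetNumLib.Main
import Groth.Agent.DevissLib.Stalk

/-!
# The Eagon–Northcott complex of a matrix of linear forms
-/

set_option autoImplicit false
set_option linter.style.haveILetI false
set_option linter.unusedSectionVars false
set_option maxHeartbeats 1000000
set_option backward.isDefEq.respectTransparency false
set_option backward.isDefEq.respectTransparency.types false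
universe u

open CategoryTheory CategoryTheory.Limits AlgebraicGeometry TopologicalSpace Opposite
open GradedCechLib (deh)
open EulerPnLib (ev val_smul' ev_deh mulHomX val_mulHomX)
open AmpleLib (res GenOn)
open DevissLib (St gm gm_app gm_map exists_gm_eq)

noncomputable section

namespace ENComplexLib

variable {r : ℕ} {k : Type u} [Field k]

local notation "P" => CohB1.ProjSpace r k
local notation "O'" => Twist.twistProjSpace r k
local notation "ℳ" => CohB1.polyGrading r k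
local notation "Dst" => QCohLib.stdOpen r k
local notation "Poly" => MvPolynomial (Fin (r + 1)) k

variable (r k) in
/-- The unit section of `O(0)`. -/
def one0 : Γ(O' (-((0 : ℕ) : ℤ)), (⊤ : (P).Opens)) := (EulerPnLib.one₀ r k).sec

theorem one0_genOn : GenOn (O' (-((0 : ℕ) : ℤ))) (one0 r k) := (EulerPnLib.one₀ r k).genOn

theorem res_one0 (j : Fin (r + 1)) {V : (P).Opens} (hV : V ≤ Dst j) :
    res (O' (-((0 : ℕ) : ℤ))) (le_top : V ≤ ⊤) (one0 r k) = res (O' (-((0 : ℕ) : ℤ))) hV (gen j 0) :=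
  TwistLib.sec_ext fun x => by
    show TwistLib.val (one0 r k) ⟨x.1, trivial⟩ = TwistLib.val (gen j 0) ⟨x.1, hV x.2⟩
    rw [val_gen]
    show Localization.mk _ _ = _
    rw [Localization.mk_eq_mk_iff, Localization.r_iff_exists]
    exact ⟨1, by simp [EulerPnLib.one₀]⟩

variable (r k) in
/-- `O ≅ O(0)`. -/
def omega : Coh.structureModule P ≅ O' (-((0 : ℕ) : ℤ)) :=
  @asIso _ _ _ _ (QCohLib.unitHom _ (one0 r k)) (AmpleLib.isIso_unitHom _ one0_genOn)

theorem omega_inv_smul (j : Fin (r + 1)) {V : (P).Opens} (hV : V ≤ Dst j) (y : Γ(P, V)) :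
    (omega r k).inv.app V (y • res (O' (-((0 : ℕ) : ℤ))) hV (gen j 0)) = (y : Γ(Coh.structureModule P, V)) := by
  have h : (omega r k).hom.app V (y : Γ(Coh.structureModule P, V)) = y • res (O' (-((0 : ℕ) : ℤ))) hV (gen j 0) := by
    rw [← res_one0 j hV]
    exact QCohLib.unitHom_app _ _ V y
  rw [← h]
  exact congr($((omega r k).hom_inv_id).app V y)

variable {m n : ℕ} (g : Fin m → Fin n → ↥(CohB1.polyGrading r k 1))

/-- The matrix of forms. -/
def pm : Fin m → Fin n → Poly := fun i t => (g i t : Poly)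

theorem sgn_mem (d : ℕ) (S : Finset (Fin n)) (u : Fin n) (a : Poly) (ha : a ∈ ℳ d) : sgn S u * a ∈ ℳ d := by
  rcases neg_one_pow_eq_or Poly ((S.filter (· < u)).card) with h | h
  · rw [sgn, h, one_mul]; exact ha
  · rw [sgn, h, neg_one_mul]; exact neg_mem ha

theorem mul_mem' (d : ℕ) (a b : Poly) (ha : a ∈ ℳ 1) (hb : b ∈ ℳ d) : a * b ∈ ℳ (d + 1) :=
  Nat.add_comm 1 d ▸ SetLike.mul_mem_graded ha hb

/-- The entries of the differentials. -/
def Dg (s : ℕ) (a : Idx m n (s + 1)) (b : Idx m n s) : ℳ 1 :=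
  ⟨D (pm g) s a b, D_mem (fun d => ℳ d) sgn_mem SetLike.GradedOne.one_mem mul_mem' (fun i t => (g i t).2) s a b⟩

/-- The entries of the augmentation. -/
def Mg (a : Idx m n 0) (_ : Unit) : ℳ m :=
  ⟨mnr (pm g) a.1.1, mnr_mem (fun d => ℳ d) sgn_mem SetLike.GradedOne.one_mem mul_mem' (fun i t => (g i t).2) a.1.1⟩

variable (r k m n) in
/-- The terms. -/
def EX : ℕ → (P).Modules
  | 0 => Coh.structureModule P
  | s + 1 => T r k (Idx m n s) (m + s)

/-- The differentials. -/
def Ed : ∀ s : ℕ, EX r k m n (s + 1) ⟶ EX r k m n s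
  | 0 => matHom (ι := Idx m n 0) (κ := Unit) (d := m) (e := 0) (e' := m + 0) (Mg g) (by push_cast; omega) ≫ biproduct.π (fun _ : Unit => O' (-((0 : ℕ) : ℤ))) () ≫
      (omega r k).inv
  | s + 1 => matHom (ι := Idx m n (s + 1)) (κ := Idx m n s) (d := 1) (e := m + s) (e' := m + (s + 1)) (Dg g s) (by push_cast; omega)

theorem coe_Dg (s : ℕ) (a : Idx m n (s + 1)) (b : Idx m n s) : ((Dg g s a b : ℳ 1) : Poly) = D (pm g) s a b := rfl

theorem coe_Mg (a : Idx m n 0) (c : Unit) : ((Mg g a c : ℳ m) : Poly) = mnr (pm g) a.1.1 := rfl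

theorem Dg_comp (s : ℕ) (a : Idx m n (s + 1 + 1)) (c : Idx m n s) :
    ∑ b, (Dg g (s + 1) a b : Poly) * (Dg g s b c : Poly) = 0 := by
  simp only [coe_Dg]
  exact D_comp (pm g) s a c

theorem Dg_Mg (a : Idx m n (0 + 1)) (c : Unit) : ∑ b, (Dg g 0 a b : Poly) * (Mg g b c : Poly) = 0 := by
  simp only [coe_Dg, coe_Mg]
  exact D_mnr (pm g) a

theorem Ed_comp_zero : Ed g (0 + 1) ≫ Ed g 0 = (0 : EX r k m n (0 + 1 + 1) ⟶ EX r k m n 0) := by
  have h := matHom_comp (ι := Idx m n 1) (κ := Idx m n 0) (ν := Unit) (d := 1) (d' := m) (d'' := 1 + m)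
    (e := 0) (e' := m + 0) (e'' := m + (0 + 1)) (Dg g 0) (Mg g) (by push_cast; omega) (by push_cast; omega)
    (Dg_Mg g) rfl
  refine (Category.assoc _ _ _).symm.trans ?_
  exact (congrArg (· ≫ _) h).trans zero_comp

theorem Ed_comp_succ (s : ℕ) :
    Ed g (s + 1 + 1) ≫ Ed g (s + 1) = (0 : EX r k m n (s + 1 + 1 + 1) ⟶ EX r k m n (s + 1)) :=
  matHom_comp (ι := Idx m n (s + 1 + 1)) (κ := Idx m n (s + 1)) (ν := Idx m n s) (d := 1) (d' := 1) (d'' := 1 + 1)
    (e := m + s) (e' := m + (s + 1)) (e'' := m + (s + 1 + 1)) (Dg g (s + 1)) (Dg g s) (by push_cast; omega)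
    (by push_cast; omega) (Dg_comp g s) rfl

theorem Ed_comp (s : ℕ) : Ed g (s + 1) ≫ Ed g s = (0 : EX r k m n (s + 1 + 1) ⟶ EX r k m n s) := by
  cases s with
  | zero => exact Ed_comp_zero g
  | succ s => exact Ed_comp_succ g s

/-- The complex. -/
def EC : ChainComplex (P).Modules ℕ := ChainComplex.of (EX r k m n) (Ed g) (Ed_comp g)

theorem Ed_zero_app (j : Fin (r + 1)) {V : (P).Opens} (hV : V ≤ Dst j) (t : Γ(EX r k m n 1, V)) :
    (Ed g 0).app V t =
      (show Γ(Coh.structureModule P, V) from ∑ a, crd (ι := Idx m n 0) (e := m + 0) j hV t a * dh j hV (mnr (pm g) a.1.1)) := by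
  show (omega r k).inv.app V ((biproduct.π (fun _ : Unit => O' (-((0 : ℕ) : ℤ))) ()).app V ((matHom (Mg g) _).app V t)) = _
  rw [← crd_spec j hV]
  refine (omega_inv_smul j hV _).trans ?_
  exact crd_matHom (Mg g) _ j hV t ()

theorem Ed_succ_crd (s : ℕ) (j : Fin (r + 1)) {V : (P).Opens} (hV : V ≤ Dst j) (t : Γ(EX r k m n (s + 1 + 1), V))
    (b : Idx m n s) :
    crd (ι := Idx m n s) (e := m + s) j hV ((Ed g (s + 1)).app V t) b =
      ∑ a, crd (ι := Idx m n (s + 1)) (e := m + (s + 1)) j hV t a * dh j hV (D (pm g) s a b) :=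
  crd_matHom (Dg g s) _ j hV t b

theorem exists_preimage (s : ℕ) (j : Fin (r + 1)) {V : (P).Opens} (hV : V ≤ Dst j) {S : Finset (Fin n)}
    (hS : S.card = m) (hu : IsUnit (dh j hV (mnr (pm g) S))) (t : Γ(EX r k m n (s + 1), V))
    (ht : (Ed g s).app V t = 0) : ∃ w, (Ed g (s + 1)).app V w = t := by
  let φ : Fin m → Fin n → Γ(P, V) := fun i => dh j hV ∘ pm g i
  rw [map_mnr] at hu
  obtain ⟨ψ, hψ⟩ := exists_rightInverse φ hS hu
  rcases s with _ | s
  · rw [Ed_zero_app g j hV] at ht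
    obtain ⟨w, hw⟩ := exact_mnr φ ψ hψ (crd (ι := Idx m n 0) (e := m + 0) j hV t) (by
      exact (Finset.sum_congr rfl fun a _ => congrArg _ (map_mnr (pm g) (dh j hV) a.1.1).symm).trans (show _ = (0 : Γ(P, V)) from ht))
    refine ⟨ofCrd (ι := Idx m n 1) (e := m + (0 + 1)) j hV w, ?_⟩
    refine Eq.trans ?_ (ofCrd_crd (ι := Idx m n 0) (e := m + 0) j hV t)
    refine (ofCrd_crd (ι := Idx m n 0) (e := m + 0) j hV _).symm.trans (congrArg _ (funext fun b => ?_))
    rw [Ed_succ_crd g 0 j hV]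
    refine Eq.trans ?_ (hw b)
    refine Finset.sum_congr rfl fun a _ => ?_
    rw [crd_ofCrd, map_D]
  · obtain ⟨w, hw⟩ := exact_D φ ψ hψ s (crd (ι := Idx m n (s + 1)) (e := m + (s + 1)) j hV t) (fun b => by
      have := congrArg (fun z => crd (ι := Idx m n s) (e := m + s) j hV z b) ht
      rw [Ed_succ_crd g s j hV, crd_zero] at this
      exact (Finset.sum_congr rfl fun a _ => congrArg _ (map_D (pm g) (dh j hV) s a b).symm).trans this)
    refine ⟨ofCrd (ι := Idx m n (s + 1 + 1)) (e := m + (s + 1 + 1)) j hV w, ?_⟩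
    refine Eq.trans ?_ (ofCrd_crd (ι := Idx m n (s + 1)) (e := m + (s + 1)) j hV t)
    refine (ofCrd_crd (ι := Idx m n (s + 1)) (e := m + (s + 1)) j hV _).symm.trans (congrArg _ (funext fun b => ?_))
    rw [Ed_succ_crd g (s + 1) j hV]
    refine Eq.trans ?_ (hw b)
    refine Finset.sum_congr rfl fun a _ => ?_
    rw [crd_ofCrd, map_D]

/-- Exactness at the points where a minor is invertible. -/
theorem notMem_support_homology (s : ℕ) {x : P} (j : Fin (r + 1)) {V : (P).Opens} (hV : V ≤ Dst j) (hxV : x ∈ V)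
    {S : Finset (Fin n)} (hS : S.card = m) (hu : IsUnit (dh j hV (mnr (pm g) S))) :
    x ∉ CohB1.support ((EC g).homology (s + 1)) := by
  rw [DevissLib.notMem_support_iff]
  let C : ShortComplex (P).Modules := ShortComplex.mk (Ed g (s + 1)) (Ed g s) (Ed_comp g s)
  have eC : (EC g).sc' (s + 1 + 1) (s + 1) s ≅ C :=
    ShortComplex.isoMk (Iso.refl _) (Iso.refl _) (Iso.refl _) (by simp [C, EC]) (by simp [C, EC])
  have e : (EC g).homology (s + 1) ≅ C.homology :=
    ShortComplex.homologyMapIso ((EC g).isoSc' (s + 1 + 1) (s + 1) s (by simp) (by simp) ≪≫ eC)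
  refine IsZero.of_iso ?_ ((St x).mapIso e)
  haveI : (St x).PreservesHomology := Functor.preservesHomologyOfExact _
  refine IsZero.of_iso ?_ (C.mapHomologyIso (St x)).symm
  rw [← ShortComplex.exact_iff_isZero_homology, ShortComplex.moduleCat_exact_iff]
  intro a ha
  obtain ⟨U, hxU, t, rfl⟩ := exists_gm_eq _ x a
  have ha' : gm _ x hxU ((Ed g s).app U t) = 0 := (gm_app (Ed g s) x hxU t).symm.trans ha
  obtain ⟨W, hxW, i₁, i₂, heq⟩ := TopCat.Presheaf.germ_eq (EX r k m n s).presheaf x hxU hxU _ 0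
    (ha'.trans (DevissLib.gm_zero _ x hxU).symm)
  let W' := W ⊓ V
  have hW'U : W' ≤ U := inf_le_left.trans (leOfHom i₁)
  let t' := (EX r k m n (s + 1)).presheaf.map (homOfLE hW'U).op t
  have ht' : (Ed g s).app W' t' = 0 := by
    refine (QCohLib.app_map (Ed g s) (homOfLE hW'U) t).trans ?_
    rw [map_zero] at heq
    have h0 := congrArg ((EX r k m n s).presheaf.map (homOfLE (inf_le_left : W' ≤ W)).op) heq
    rw [map_zero, ← ConcreteCategory.comp_apply, ← Functor.map_comp] at h0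
    exact h0
  have hu' : IsUnit (dh j ((inf_le_right : W' ≤ V).trans hV) (mnr (pm g) S)) := by
    have := hu.map ((P).presheaf.map (homOfLE (inf_le_right : W' ≤ V)).op).hom
    rw [dh, RingHom.comp_apply, ← ConcreteCategory.comp_apply, ← Functor.map_comp] at this
    exact this
  obtain ⟨w, hw⟩ := exists_preimage g s j _ hS hu' t' ht'
  refine ⟨gm _ x (show x ∈ W' from ⟨hxW, hxV⟩) w, ?_⟩
  refine (gm_app (Ed g (s + 1)) x _ w).trans ?_
  rw [hw]
  exact gm_map _ hW'U x _ t

theorem isCoh_EX (s : ℕ) : Coh.IsCoh (EX r k m n s) := by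
  haveI := PnCohLib.isLocallyNoetherian_projSpace (n := r) k
  have h0 : ∀ e : ℕ, Coh.IsCoh (O' (-(e : ℤ))) := fun e => CurvLib.isCoh_of_isInvertible (PicPnLib.twist_inv r k _)
  rcases s with _ | s
  · exact QCohLib.isCoh_of_iso (omega r k).symm (h0 0)
  · let eW : T r k (Fin (Fintype.card (Idx m n s))) (m + s) ≅ T r k (Idx m n s) (m + s) :=
      biproduct.whiskerEquiv (g := fun _ : Idx m n s => O' (-((m + s : ℕ) : ℤ)))
        (f := fun _ : Fin (Fintype.card (Idx m n s)) => O' (-((m + s : ℕ) : ℤ)))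
        (Fintype.equivFin (Idx m n s)).symm fun _ => Iso.refl _
    exact QCohLib.isCoh_of_iso eW (RefDetNumLib.isCoh_biproduct _ fun _ => h0 _)

theorem isMRegular_twist_neg {e : ℕ} {d : ℤ} (hd : (e : ℤ) ≤ d) (i : ℕ) (hi : 1 ≤ i) (hir : i ≤ r) :
    Subsingleton (Coh.HH P (CohB1.tensorMod (O' (-(e : ℤ))) (O' (d - i))) i) := by
  obtain ⟨t⟩ := PicPnLib.twist_add r k (-(e : ℤ)) (d - i)
  exact SerreVanLib.subsingleton_HH_of_iso t i
    (PnCohLib.subsingleton_HH_twist (n := r) (R := k) _ i (by omega) (by omega))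

theorem subsingleton_HH_T {ι : Type} [Fintype ι] {e : ℕ} {d : ℤ} (hd : (e : ℤ) ≤ d) (i : ℕ) (hi : 1 ≤ i)
    (hir : i ≤ r) : Subsingleton (Coh.HH P (CohB1.tensorMod (O' (d - i)) (T r k ι e)) i) := by
  letI : (P).Over (Spec (CommRingCat.of k)) := ⟨CohB1.ProjSpace.toSpec r k⟩
  let eW : T r k (Fin (Fintype.card ι)) e ≅ T r k ι e :=
    biproduct.whiskerEquiv (g := fun _ : ι => O' (-(e : ℤ))) (f := fun _ : Fin (Fintype.card ι) => O' (-(e : ℤ)))
      (Fintype.equivFin ι).symm fun _ => Iso.refl _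
  refine SerreVanLib.subsingleton_HH_of_iso (HilbPolyLib.congrRight (O' (d - i)) eW.symm) i ?_
  refine PnCohLib.subsingleton_HH_biproduct (k := k) (fun _ : Fin (Fintype.card ι) => O' (-(e : ℤ)))
    (CurvLib.tensorLeft' (O' (d - i))) i fun a => ?_
  exact SerreVanLib.subsingleton_HH_of_iso (HilbPolyLib.swapIso (O' (d - i)) (O' (-(e : ℤ)))) i
    (isMRegular_twist_neg hd i hi hir)

theorem isMRegular_EX (hm : 1 ≤ m) (s : ℕ) : Curv2.IsMRegular k r (EX r k m n s) ((m : ℤ) - 1 + s) := by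
  intro i hi hir
  refine SerreVanLib.subsingleton_HH_of_iso (HilbPolyLib.swapIso _ _) i ?_
  rcases s with _ | s
  · refine SerreVanLib.subsingleton_HH_of_iso (HilbPolyLib.congrRight _ (omega r k)) i ?_
    refine SerreVanLib.subsingleton_HH_of_iso (HilbPolyLib.swapIso _ _) i ?_
    exact isMRegular_twist_neg (by push_cast; omega) i hi hir
  · exact subsingleton_HH_T (ι := Idx m n s) (e := m + s) (by push_cast; omega) i hi hir

end ENComplexLib
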